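import Cfsg.Agent.Lib.ThompsonJ.Ring
import Cfsg.Agent.Lib.Solvable.CoprimeGeneration
import Mathlib.FieldTheory.Finite.Basic
import Mathlib.Algebra.Module.End

/-!
An abelian `p`-group moving an abelian `p'`-group of operators of a `p`-group of exponent `p`,
`p ≥ 5`, does not act cubically on some isotropic orbit.
-/

set_option autoImplicit false

namespace CfsgLib.ThompsonJ

variable {V : Type*} [AddCommGroup V]

/-- An idempotent in a finite ideal, acting as identity on the ideal. -/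
theorem exists_unit_of_reduced {R : Type*} [CommRing R] [Finite R] {q : ℕ} (hq : 3 ≤ q)
    (hpow : ∀ r : R, r ^ q = r) (I : Ideal R) : ∃ e ∈ I, ∀ r ∈ I, e * r = r := by
  classical
  suffices h : ∀ s : Finset R, (∀ r ∈ s, r ∈ I) → ∃ e ∈ I, e * e = e ∧ ∀ r ∈ s, e * r = r by
    haveI := Fintype.ofFinite R
    obtain ⟨e, he, -, h'⟩ := h (Finset.univ.filter (· ∈ I)) (by simp)
    exact ⟨e, he, fun r hr => h' r (by simpa using hr)⟩
  intro s
  induction s using Finset.induction_on with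
  | empty => exact fun _ => ⟨0, I.zero_mem, by simp, by simp⟩
  | insert a s ha ih =>
    intro hs
    obtain ⟨e, he, hee, hes⟩ := ih fun r hr => hs r (Finset.mem_insert_of_mem hr)
    set f := a ^ (q - 1) with hf
    have hfa : f * a = a := by
      rw [hf, ← pow_succ, Nat.sub_add_cancel (by omega), hpow]
    have hff : f * f = f := by
      calc f * f = f * a * a ^ (q - 2) := by
            rw [hf, mul_assoc, ← pow_succ', show q - 2 + 1 = q - 1 by omega]
        _ = f := by rw [hfa, hf, ← pow_succ', show q - 2 + 1 = q - 1 by omega]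
    have hfI : f ∈ I := I.pow_mem_of_mem (hs a (Finset.mem_insert_self a s)) _ (by omega)
    refine ⟨e + f - e * f, I.sub_mem (I.add_mem he hfI) (I.mul_mem_right f he), ?_, fun r hr => ?_⟩
    · calc (e + f - e * f) * (e + f - e * f)
          = e * e + f * f + 2 * (e * f) - 2 * ((e * e) * f) - 2 * (e * (f * f))
              + (e * e) * (f * f) := by ring
        _ = e + f - e * f := by rw [hee, hff]; ring
    · rcases Finset.mem_insert.1 hr with rfl | hr
      · calc (e + f - e * f) * r = e * r + f * r - e * (f * r) := by ring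
          _ = r := by rw [hfa]; ring
      · calc (e + f - e * f) * r = e * r + f * r - f * (e * r) := by ring
          _ = r := by rw [hes r hr]; ring

/-- `p`-powers fix the elements of a commutative ring generated by `p'`-elements. -/
theorem exists_pow_eq_self {R : Type*} [Ring R] (s : Subring R) [Nontrivial R]
    {p : ℕ} (hp : p.Prime) (h5 : 5 ≤ p) (hch : (p : R) = 0) (hs : ∀ a ∈ s, ∀ b ∈ s, Commute a b)
    (T : Set R) (hT : s = Subring.closure T) (m : ℕ) (hm : m.Coprime p) (hTm : ∀ x ∈ T, x ^ m = 1) :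
    ∃ q : ℕ, Odd q ∧ 5 ≤ q ∧ ∀ r ∈ s, r ^ q = r := by
  haveI := Fact.mk hp
  haveI hcp : CharP R p := (CharP.charP_iff_prime_eq_zero hp).2 hch
  have hm0 : m ≠ 0 := by
    rintro rfl
    rw [Nat.coprime_zero_left] at hm
    exact hp.one_lt.ne' hm
  obtain ⟨n, hn0, hn⟩ : ∃ n, 0 < n ∧ p ^ n ≡ 1 [MOD m] :=
    ⟨m.totient, Nat.totient_pos.2 (Nat.pos_of_ne_zero hm0), Nat.ModEq.pow_totient hm.symm⟩
  have hpn : p ≤ p ^ n := Nat.le_self_pow hn0.ne' p
  refine ⟨p ^ n, (hp.odd_of_ne_two (by omega)).pow, le_trans h5 hpn, fun r hr => ?_⟩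
  rw [hT] at hr
  induction hr using Subring.closure_induction with
  | mem x hx =>
    obtain ⟨j, hj⟩ := (Nat.modEq_iff_dvd' (Nat.one_le_pow _ _ hp.pos)).1 hn.symm
    have : p ^ n = 1 + m * j := by omega
    rw [this, pow_add, pow_one, pow_mul, hTm x hx, one_pow, mul_one]
  | zero => exact zero_pow (by positivity)
  | one => exact one_pow _
  | add x y hx hy ihx ihy =>
    rw [add_pow_char_pow_of_commute (p := p) (n := n) (h := hs x (hT ▸ hx) y (hT ▸ hy)), ihx, ihy]
  | neg x hx ih => rw [Odd.neg_pow ((hp.odd_of_ne_two (by omega)).pow), ih]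
  | mul x y hx hy ihx ihy => rw [(hs x (hT ▸ hx) y (hT ▸ hy)).mul_pow, ihx, ihy]

variable [Finite V] {p : ℕ} [hp : Fact p.Prime]

/-- `δ³ v = (a - 1)³ v` -/
def cube (a : (AddMonoid.End V)ˣ) (v : V) : V :=
  (a : AddMonoid.End V) ((a : AddMonoid.End V) ((a : AddMonoid.End V) v))
    - 3 • (a : AddMonoid.End V) ((a : AddMonoid.End V) v) + 3 • (a : AddMonoid.End V) v - v

/-- The core of the replacement argument. -/
theorem exists_witness (h5 : 5 ≤ p) (hV : ∀ v : V, p • v = 0) (X Γ : Subgroup (AddMonoid.End V)ˣ)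
    (hXc : ∀ x ∈ X, ∀ y ∈ X, x * y = y * x) (hXp : (Nat.card X).Coprime p)
    [IsMulCommutative Γ] (hΓp : IsPGroup p Γ) (hnorm : ∀ g ∈ Γ, ∀ x ∈ X, g * x * g⁻¹ ∈ X)
    (hmove : ∃ g ∈ Γ, ∃ x ∈ X, g * x ≠ x * g) {W : Type*} [AddCommGroup W] (Bf : V → V → W)
    (hBl : ∀ v v' w, Bf (v + v') w = Bf v w + Bf v' w) (hBr : ∀ v w w', Bf v (w + w') = Bf v w + Bf v w')
    (hBa : ∀ v, Bf v v = 0)
    (hBX : ∀ x ∈ X, ∀ v w, Bf ((x : AddMonoid.End V) v) ((x : AddMonoid.End V) w) = Bf v w) :
    ∃ a ∈ Γ, ∃ u : V, (∀ c ∈ Γ, ∃ j : ℕ, (c : AddMonoid.End V) u = ((a ^ j : (AddMonoid.End V)ˣ) : AddMonoid.End V) u) ∧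
      cube a u ≠ 0 ∧
      ∀ c ∈ Γ, ∀ d ∈ Γ, Bf ((c : AddMonoid.End V) u) ((d : AddMonoid.End V) u) = 0 := by
  classical
  haveI : Nontrivial (AddMonoid.End V) := by
    obtain ⟨g, -, x, -, hne⟩ := hmove
    refine ⟨⟨((g * x : (AddMonoid.End V)ˣ) : AddMonoid.End V), ((x * g : (AddMonoid.End V)ˣ) : AddMonoid.End V), fun h => hne (Units.ext h)⟩⟩
  have hpp := hp.out
  haveI : Finite (AddMonoid.End V) := Finite.of_injective (fun f : AddMonoid.End V => (f : V → V)) DFunLike.coe_injective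
  -- choose the cocyclic subgroup
  obtain ⟨B, a, y₀, hB, ha, hcyc, hy₀X, hy₀B, hy₀⟩ : ∃ B a y₀, B ≤ Γ ∧ a ∈ Γ ∧ Γ ≤ B ⊔ Subgroup.zpowers a ∧
      y₀ ∈ X ∧ y₀ ∈ Subgroup.centralizer (B : Set (AddMonoid.End V)ˣ) ∧
      ¬ y₀ ∈ Subgroup.centralizer (Γ : Set (AddMonoid.End V)ˣ) := by
    by_contra hno
    push Not at hno
    obtain ⟨g, hg, x, hx, hne⟩ := hmove
    have hcop : (Nat.card Γ).Coprime (Nat.card X) := by
      obtain ⟨n, hn⟩ := IsPGroup.iff_card.1 hΓp
      rw [hn]; exact (hXp.symm).pow_left n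
    have hle := CfsgLib.Solvable.le_of_cyclic_quotient_centralizer_le (A := Γ) (K := X)
      (W := Subgroup.centralizer (Γ : Set (AddMonoid.End V)ˣ))
      (fun g hg => Subgroup.mem_normalizer_iff.2 fun x => ⟨hnorm g hg x, fun h => by
        have := hnorm g⁻¹ (inv_mem hg) _ h
        simpa [mul_assoc] using this⟩) hcop
      (fun B hB ⟨a, ha, hc⟩ y hy => hno B a y hB ha hc hy.1 hy.2)
    exact hne (Subgroup.mem_centralizer_iff.1 (hle hx) g hg)
  -- the ring generated by `X`
  set T : Set (AddMonoid.End V) := Units.val '' (X : Set (AddMonoid.End V)ˣ) with hT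
  have hTc : ∀ r ∈ T, ∀ s ∈ T, r * s = s * r := by
    rintro _ ⟨x, hx, rfl⟩ _ ⟨y, hy, rfl⟩
    exact congrArg Units.val (hXc x hx y hy)
  set R := Subring.closure T with hR
  letI : CommRing R := Subring.closureCommRingOfComm hTc
  have hRc : ∀ r ∈ R, ∀ s ∈ R, Commute r s := fun r hr s hs =>
    congrArg Subtype.val (mul_comm (⟨r, hr⟩ : R) ⟨s, hs⟩)
  have hch : (p : AddMonoid.End V) = 0 := by
    ext v
    rw [AddMonoid.End.natCast_def]
    exact hV v
  obtain ⟨q, hq, hq5, hpow⟩ := exists_pow_eq_self R hpp h5 hch hRc T rfl (Nat.card X) hXp (by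
    rintro _ ⟨x, hx, rfl⟩
    rw [← Units.val_pow_eq_pow_val]
    have : (⟨x, hx⟩ : X) ^ Nat.card X = 1 := pow_card_eq_one'
    exact congrArg Units.val (congrArg Subtype.val this))
  have hpow' : ∀ r : R, r ^ q = r := fun r => Subtype.ext (by rw [SubmonoidClass.coe_pow]; exact hpow r r.2)
  have hXR : ∀ x ∈ X, (x : AddMonoid.End V) ∈ R := fun x hx => Subring.subset_closure ⟨x, hx, rfl⟩
  -- conjugation
  have hconj : ∀ g ∈ Γ, ∀ r ∈ R, (g : AddMonoid.End V) * r * ((g⁻¹ : (AddMonoid.End V)ˣ) : AddMonoid.End V) ∈ R := by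
    intro g hg r hr
    induction hr using Subring.closure_induction with
    | mem x hx =>
      obtain ⟨x, hx, rfl⟩ := hx
      rw [← Units.val_mul, ← Units.val_mul]
      exact hXR _ (hnorm g hg x hx)
    | zero => simp
    | one => simp
    | add x y _ _ ihx ihy => rw [mul_add, add_mul]; exact R.add_mem ihx ihy
    | neg x _ ih => rw [mul_neg, neg_mul]; exact R.neg_mem ih
    | mul x y _ _ ihx ihy =>
      have := R.mul_mem ihx ihy
      simpa [mul_assoc] using this
  let cj : Γ → R →+* R := fun g =>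
    { toFun := fun r => ⟨_, hconj g g.2 r r.2⟩
      map_one' := Subtype.ext (by simp)
      map_zero' := Subtype.ext (by simp)
      map_add' := fun r s => Subtype.ext (by simp [mul_add, add_mul])
      map_mul' := fun r s => Subtype.ext (by simp [mul_assoc]) }
  -- elements killing all fixed vectors are zero
  have hann : ∀ r : R, (∀ u : V, (∀ g ∈ Γ, ((g : (AddMonoid.End V)ˣ) : AddMonoid.End V) u = u) → (r : AddMonoid.End V) u = 0) → r = 0 := by
    let I : Ideal R :=
      { carrier := {r | ∀ u : V, (∀ g ∈ Γ, ((g : (AddMonoid.End V)ˣ) : AddMonoid.End V) u = u) → (r : AddMonoid.End V) u = 0}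
        add_mem' := fun {r s} hr hs u hu => by
          show (r : AddMonoid.End V) u + (s : AddMonoid.End V) u = 0
          rw [hr u hu, hs u hu, add_zero]
        zero_mem' := fun u _ => rfl
        smul_mem' := fun c r hr u hu => by
          show (c : AddMonoid.End V) ((r : AddMonoid.End V) u) = 0
          rw [hr u hu, map_zero] }
    obtain ⟨e, he, hunit⟩ := exists_unit_of_reduced (by omega) hpow' I
    have he2 : e * e = e := hunit e he
    have hfix : ∀ g : Γ, cj g e = e := by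
      have hI : ∀ g : Γ, ∀ r ∈ I, cj g r ∈ I := by
        intro g r hr u hu
        show ((g : (AddMonoid.End V)ˣ) : AddMonoid.End V) ((r : AddMonoid.End V)
          ((((g : (AddMonoid.End V)ˣ)⁻¹ : (AddMonoid.End V)ˣ) : AddMonoid.End V) u)) = 0
        rw [hu _ (inv_mem g.2), hr u hu, map_zero]
      intro g
      have h1 : e * cj g e = cj g e := hunit _ (hI g e he)
      have h2 : cj g⁻¹ e ∈ I := hI g⁻¹ e he
      have h3 : cj g (e * cj g⁻¹ e) = cj g (cj g⁻¹ e) := congrArg _ (hunit _ h2)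
      have h4 : cj g (cj g⁻¹ e) = e := Subtype.ext (by simp [cj, mul_assoc])
      rw [map_mul, h4, mul_comm] at h3
      exact h1.symm.trans h3
    have he0 : e = 0 := by
      by_contra hne
      let Im : AddSubgroup V := AddMonoidHom.range (e : AddMonoid.End V)
      have hmem : ∀ g : Γ, ∀ v ∈ Im, ((g : (AddMonoid.End V)ˣ) : AddMonoid.End V) v ∈ Im := by
        rintro g _ ⟨v, rfl⟩
        refine ⟨((g : (AddMonoid.End V)ˣ) : AddMonoid.End V) v, ?_⟩
        have h1 := congrArg (fun r : R => (r : AddMonoid.End V)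
          (((g : (AddMonoid.End V)ˣ) : AddMonoid.End V) v)) (hfix g)
        simp only [cj] at h1
        change ((g : (AddMonoid.End V)ˣ) : AddMonoid.End V) ((e : AddMonoid.End V)
          ((((g : (AddMonoid.End V)ˣ)⁻¹ : (AddMonoid.End V)ˣ) : AddMonoid.End V)
            (((g : (AddMonoid.End V)ˣ) : AddMonoid.End V) v))) = _ at h1
        rw [← AddMonoid.End.smul_def (((g : (AddMonoid.End V)ˣ)⁻¹ : (AddMonoid.End V)ˣ) : AddMonoid.End V),
          ← AddMonoid.End.smul_def ((g : (AddMonoid.End V)ˣ) : AddMonoid.End V) v, smul_smul, Units.inv_mul,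
          one_smul] at h1
        exact h1.symm
      letI : MulAction Γ Im :=
        { smul := fun g v => ⟨_, hmem g v v.2⟩
          one_smul := fun v => rfl
          mul_smul := fun g h v => rfl }
      have hnt : p ∣ Nat.card Im := by
        obtain ⟨v, hv⟩ : ∃ v, (e : AddMonoid.End V) v ≠ 0 := by
          by_contra hc
          push Not at hc
          exact hne (Subtype.ext (AddMonoidHom.ext hc))
        have ho : addOrderOf (⟨_, v, rfl⟩ : Im) = p :=
          addOrderOf_eq_prime (Subtype.ext (hV _)) fun h => hv (congrArg Subtype.val h)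
        exact ho ▸ addOrderOf_dvd_natCard _
      have h0 : (0 : Im) ∈ MulAction.fixedPoints Γ Im := fun g => Subtype.ext (map_zero _)
      obtain ⟨b, hb, hb0⟩ := hΓp.exists_fixed_point_of_prime_dvd_card_of_fixed_point Im hnt h0
      apply hb0
      obtain ⟨v, hv⟩ := b.2
      have h1 := he b fun g hg => congrArg Subtype.val (hb ⟨g, hg⟩)
      rw [← hv] at h1
      have h2 : (e : AddMonoid.End V) ((e : AddMonoid.End V) v) = (e : AddMonoid.End V) v :=
        congrArg (fun r : R => (r : AddMonoid.End V) v) he2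
      refine Subtype.ext ?_
      show (0 : V) = b.1
      exact (h1.symm.trans h2).trans hv
    intro r hr
    rw [← hunit r hr, he0, zero_mul]
  -- isotropy of the symmetric elements
  set z : (AddMonoid.End V)ˣ → AddMonoid.End V := fun x => (x : AddMonoid.End V) + ((x⁻¹ : (AddMonoid.End V)ˣ) : AddMonoid.End V) with hz
  set P := AddSubgroup.closure (insert (1 : AddMonoid.End V) (z '' (X : Set (AddMonoid.End V)ˣ))) with hP
  have hBl0 : ∀ w, Bf 0 w = 0 := fun w => by simpa using hBl 0 0 w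
  have hBr0 : ∀ v, Bf v 0 = 0 := fun v => by simpa using hBr v 0 0
  have hBln : ∀ v w, Bf (-v) w = -Bf v w := fun v w =>
    eq_neg_of_add_eq_zero_left (by rw [← hBl, neg_add_cancel, hBl0])
  have hBrn : ∀ v w, Bf v (-w) = -Bf v w := fun v w =>
    eq_neg_of_add_eq_zero_left (by rw [← hBr, neg_add_cancel, hBr0])
  have hskew : ∀ v w, Bf v w + Bf w v = 0 := fun v w => by
    have := hBa (v + w)
    simp only [hBl, hBr, hBa, zero_add, add_zero] at this
    exact this
  have hiso : ∀ r ∈ P, ∀ s ∈ P, ∀ v : V, Bf (r v) (s v) = 0 := by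
    have hgen : ∀ r ∈ insert (1 : AddMonoid.End V) (z '' (X : Set (AddMonoid.End V)ˣ)),
        ∀ s ∈ insert (1 : AddMonoid.End V) (z '' (X : Set (AddMonoid.End V)ˣ)), ∀ v : V, Bf (r v) (s v) = 0 := by
      have h1 : ∀ x ∈ X, ∀ v : V, Bf v (z x v) = 0 := by
        intro x hx v
        show Bf v ((x : AddMonoid.End V) v + ((x⁻¹ : (AddMonoid.End V)ˣ) : AddMonoid.End V) v) = 0
        rw [hBr, ← hBX x hx v (((x⁻¹ : (AddMonoid.End V)ˣ) : AddMonoid.End V) v),
          ← AddMonoid.End.smul_def (((x⁻¹ : (AddMonoid.End V)ˣ) : AddMonoid.End V)) v,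
          ← AddMonoid.End.smul_def ((x : AddMonoid.End V)) (_ • v), smul_smul, Units.mul_inv, one_smul]
        exact hskew _ _
      rintro r (rfl | ⟨x, hx, rfl⟩) s (rfl | ⟨y, hy, rfl⟩) v
      · exact hBa v
      · exact h1 y hy v
      · have hh := hskew (z x v) v
        rwa [h1 x hx v, add_zero] at hh
      · show Bf ((x : AddMonoid.End V) v + ((x⁻¹ : (AddMonoid.End V)ˣ) : AddMonoid.End V) v)
          ((y : AddMonoid.End V) v + ((y⁻¹ : (AddMonoid.End V)ˣ) : AddMonoid.End V) v) = 0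
        have hxy : ∀ t ∈ X, ∀ x' y' : (AddMonoid.End V)ˣ, Bf ((x' : AddMonoid.End V) v) ((y' : AddMonoid.End V) v)
            = Bf (((t * x' : (AddMonoid.End V)ˣ) : AddMonoid.End V) v) (((t * y' : (AddMonoid.End V)ˣ) : AddMonoid.End V) v) :=
          fun t ht x' y' => (hBX t ht _ _).symm
        have e1 : Bf (((x⁻¹ : (AddMonoid.End V)ˣ) : AddMonoid.End V) v) (((y⁻¹ : (AddMonoid.End V)ˣ) : AddMonoid.End V) v)
            = Bf ((y : AddMonoid.End V) v) ((x : AddMonoid.End V) v) := by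
          rw [hxy (x * y) (mul_mem hx hy) x⁻¹ y⁻¹, mul_assoc x y y⁻¹, mul_inv_cancel, mul_one,
            hXc x hx y hy, mul_assoc y x x⁻¹, mul_inv_cancel, mul_one]
        have e2 : Bf (((x⁻¹ : (AddMonoid.End V)ˣ) : AddMonoid.End V) v) ((y : AddMonoid.End V) v)
            = Bf (((y⁻¹ : (AddMonoid.End V)ˣ) : AddMonoid.End V) v) ((x : AddMonoid.End V) v) := by
          rw [hxy (x * y⁻¹) (mul_mem hx (inv_mem hy)) x⁻¹ y, mul_assoc x y⁻¹ y, inv_mul_cancel, mul_one,
            hXc x hx y⁻¹ (inv_mem hy), mul_assoc y⁻¹ x x⁻¹, mul_inv_cancel, mul_one]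
        rw [hBl, hBr, hBr, e1, e2]
        have e3 := hskew ((x : AddMonoid.End V) v) ((y : AddMonoid.End V) v)
        have e4 := hskew ((x : AddMonoid.End V) v) (((y⁻¹ : (AddMonoid.End V)ˣ) : AddMonoid.End V) v)
        linear_combination (norm := abel) e3 + e4
    intro r hr
    induction hr using AddSubgroup.closure_induction with
    | mem r hr =>
      intro s hs
      induction hs using AddSubgroup.closure_induction with
      | mem s hs => exact hgen r hr s hs
      | zero => exact fun v => hBr0 _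
      | add s t _ _ ihs iht =>
        intro v; show Bf (r v) (s v + t v) = 0
        rw [hBr, ihs, iht, add_zero]
      | neg s _ ih => intro v; show Bf (r v) (-(s v)) = 0; rw [hBrn, ih, neg_zero]
    | zero => exact fun s _ v => hBl0 _
    | add r t _ _ ihr iht =>
      intro s hs v; show Bf (r v + t v) (s v) = 0
      rw [hBl, ihr s hs, iht s hs, add_zero]
    | neg r _ ih => intro s hs v; show Bf (-(r v)) (s v) = 0; rw [hBln, ih s hs, neg_zero]
  have hz1 : z 1 = 1 + 1 := by simp [hz]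
  have hzmul : ∀ x ∈ X, ∀ y ∈ X, z x * z y = z (x * y) + z (x * y⁻¹) := by
    intro x hx y hy
    have e1 : (x * y)⁻¹ = x⁻¹ * y⁻¹ := by rw [mul_inv_rev, hXc y⁻¹ (inv_mem hy) x⁻¹ (inv_mem hx)]
    have e2 : (x * y⁻¹)⁻¹ = x⁻¹ * y := by rw [mul_inv_rev, inv_inv, hXc y hy x⁻¹ (inv_mem hx)]
    simp only [hz, e1, e2, Units.val_mul]
    simp only [add_mul, mul_add]
    abel
  have hPmul : ∀ r ∈ P, ∀ s ∈ P, r * s ∈ P := by
    intro r hr s hs
    induction hr using AddSubgroup.closure_induction with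
    | mem r hr =>
      induction hs using AddSubgroup.closure_induction with
      | mem s hs =>
        rcases hr with rfl | ⟨x, hx, rfl⟩
        · rw [one_mul]; exact AddSubgroup.subset_closure hs
        · rcases hs with rfl | ⟨y, hy, rfl⟩
          · rw [mul_one]; exact AddSubgroup.subset_closure (Or.inr ⟨x, hx, rfl⟩)
          · rw [hzmul x hx y hy]
            exact P.add_mem (AddSubgroup.subset_closure (Or.inr ⟨_, mul_mem hx hy, rfl⟩))
              (AddSubgroup.subset_closure (Or.inr ⟨_, mul_mem hx (inv_mem hy), rfl⟩))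
      | zero => simp
      | add s t _ _ ihs iht => rw [mul_add]; exact P.add_mem ihs iht
      | neg s _ ih => rw [mul_neg]; exact P.neg_mem ih
    | zero => simp
    | add r t _ _ ihr iht => rw [add_mul]; exact P.add_mem ihr iht
    | neg r _ ih => rw [neg_mul]; exact P.neg_mem ih
  -- the fixed subgroup of `B` in `X`, and its symmetric elements
  set Y := X ⊓ Subgroup.centralizer (B : Set (AddMonoid.End V)ˣ) with hY
  have hcomm : ∀ g ∈ Γ, ∀ h ∈ Γ, g * h = h * g := fun g hg h hh =>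
    congrArg Subtype.val ((inferInstance : IsMulCommutative Γ).is_comm.comm (⟨g, hg⟩ : Γ) ⟨h, hh⟩)
  have hYn : ∀ g ∈ Γ, ∀ y ∈ Y, g * y * g⁻¹ ∈ Y := by
    intro g hg y hy
    refine ⟨hnorm g hg y hy.1, Subgroup.mem_centralizer_iff.2 fun h hh => ?_⟩
    have e1 : Commute h y := Subgroup.mem_centralizer_iff.1 hy.2 h hh
    have e2 : Commute h g := hcomm h (hB hh) g hg
    exact ((e2.mul_right e1).mul_right e2.inv_right).eq
  let zR : (y : (AddMonoid.End V)ˣ) → y ∈ X → R := fun y hy =>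
    ⟨z y, R.add_mem (hXR y hy) (hXR _ (inv_mem hy))⟩
  set S : Subring R := Subring.closure {r : R | ∃ y, ∃ hy : y ∈ Y, r = zR y hy.1} with hS
  have hSP : ∀ r ∈ S, (r : AddMonoid.End V) ∈ P := by
    intro r hr
    induction hr using Subring.closure_induction with
    | mem r hr =>
      obtain ⟨y, hy, rfl⟩ := hr
      exact AddSubgroup.subset_closure (Or.inr ⟨y, hy.1, rfl⟩)
    | zero => exact P.zero_mem
    | one => exact AddSubgroup.subset_closure (Or.inl rfl)
    | add r s _ _ ihr ihs => exact P.add_mem ihr ihs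
    | neg r _ ih => exact P.neg_mem ih
    | mul r s _ _ ihr ihs => exact hPmul _ ihr _ ihs
  have hcjS : ∀ g : Γ, ∀ r ∈ S, cj g r ∈ S := by
    intro g r hr
    induction hr using Subring.closure_induction with
    | mem r hr =>
      obtain ⟨y, hy, rfl⟩ := hr
      refine Subring.subset_closure ⟨_, hYn g g.2 y hy, Subtype.ext ?_⟩
      simp [cj, zR, hz, mul_add, add_mul, mul_assoc]
    | zero => simp
    | one => simp
    | add r s _ _ ihr ihs => rw [map_add]; exact S.add_mem ihr ihs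
    | neg r _ ih => rw [map_neg]; exact S.neg_mem ih
    | mul r s _ _ ihr ihs => rw [map_mul]; exact S.mul_mem ihr ihs
  have hSB : ∀ h ∈ B, ∀ r ∈ S, ((h : (AddMonoid.End V)ˣ) : AddMonoid.End V) * r = r * (h : AddMonoid.End V) := by
    intro h hh r hr
    induction hr using Subring.closure_induction with
    | mem r hr =>
      obtain ⟨y, hy, rfl⟩ := hr
      have e : Commute h y := Subgroup.mem_centralizer_iff.1 hy.2 h hh
      exact (Commute.add_right e.units_val e.inv_right.units_val).eq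
    | zero => simp
    | one => simp
    | add r s _ _ ihr ihs => push_cast; rw [mul_add, add_mul, ihr, ihs]
    | neg r _ ih => push_cast; rw [mul_neg, neg_mul, ih]
    | mul r s _ _ ihr ihs => push_cast; rw [← mul_assoc, ihr, mul_assoc, ihs, mul_assoc]
  -- the witness
  by_contra hnone
  push Not at hnone
  set σ := cj ⟨a, ha⟩ with hσ
  have hσapp : ∀ (r : R) (u : V), (a : AddMonoid.End V) u = u →
      (σ r : AddMonoid.End V) u = (a : AddMonoid.End V) ((r : AddMonoid.End V) u) := by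
    intro r u hu
    have hu' : ((a⁻¹ : (AddMonoid.End V)ˣ) : AddMonoid.End V) u = u := by
      conv_lhs => rw [← hu]
      exact congrArg (fun f : AddMonoid.End V => f u) (Units.inv_mul a)
    show (a : AddMonoid.End V) ((r : AddMonoid.End V) (((a⁻¹ : (AddMonoid.End V)ˣ) : AddMonoid.End V) u)) = _
    rw [hu']
  have hcub : ∀ r ∈ S, σ (σ (σ r)) - 3 * σ (σ r) + 3 * σ r - r = 0 := by
    intro r hr
    refine hann _ fun u0 hu0 => ?_
    by_contra hne
    set u := (r : AddMonoid.End V) u0 with hu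
    have hcube : cube a u ≠ 0 := by
      intro h
      apply hne
      have e := hu0 a ha
      show (σ (σ (σ r)) : AddMonoid.End V) u0 - ((3 : R) * σ (σ r) : R).1 u0 + ((3 : R) * σ r : R).1 u0 - (r : AddMonoid.End V) u0 = 0
      have h3 : ∀ s : R, ((3 : R) * s : R).1 u0 = 3 • (s : AddMonoid.End V) u0 := by
        intro s
        have : (3 : R) * s = 3 • s := by rw [nsmul_eq_mul]; norm_num
        rw [this]; rfl
      rw [h3, h3, hσapp _ _ e, hσapp _ _ e, hσapp _ _ e]
      exact h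
    obtain ⟨c, hc, d, hd, hbad⟩ := hnone a ha u (by
      intro c hc
      obtain ⟨g, hg, h, hh, rfl⟩ : ∃ g ∈ Subgroup.zpowers a, ∃ h ∈ B, g * h = c := by
        have hmem : c ∈ Subgroup.closure ((B : Set _) ∪ Subgroup.zpowers a) := by
          rw [← Subgroup.sup_eq_closure]; exact hcyc hc
        clear hc
        induction hmem using Subgroup.closure_induction with
        | mem x hx =>
          rcases hx with hx | hx
          · exact ⟨1, one_mem _, x, hx, one_mul x⟩
          · exact ⟨x, hx, 1, one_mem _, mul_one x⟩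
        | one => exact ⟨1, one_mem _, 1, one_mem _, one_mul 1⟩
        | mul x y _ _ ihx ihy =>
          obtain ⟨g, hg, h, hh, rfl⟩ := ihx
          obtain ⟨g', hg', h', hh', rfl⟩ := ihy
          refine ⟨g * g', mul_mem hg hg', h * h', mul_mem hh hh', ?_⟩
          rw [mul_assoc g h (g' * h'), ← mul_assoc h g' h', hcomm h (hB hh) g' (Subgroup.zpowers_le.2 ha hg'),
            mul_assoc g' h h', ← mul_assoc g g']
        | inv x _ ih =>
          obtain ⟨g, hg, h, hh, rfl⟩ := ih
          exact ⟨g⁻¹, inv_mem hg, h⁻¹, inv_mem hh, by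
            rw [mul_inv_rev, hcomm g⁻¹ (inv_mem (Subgroup.zpowers_le.2 ha hg)) h⁻¹ (inv_mem (hB hh))]⟩
      obtain ⟨j, rfl⟩ : ∃ j : ℕ, a ^ j = g := by
        obtain ⟨j, hj⟩ := ((mem_powers_iff_mem_zpowers.2 hg))
        exact ⟨j, hj⟩
      refine ⟨j, ?_⟩
      rw [Units.val_mul]
      show ((a ^ j : (AddMonoid.End V)ˣ) : AddMonoid.End V) ((h : AddMonoid.End V) u) = _
      congr 1
      show ((h : AddMonoid.End V) * r) u0 = _
      rw [hSB h hh r hr]
      show (r : AddMonoid.End V) ((h : AddMonoid.End V) u0) = _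
      rw [hu0 h (hB hh)]) hcube
    · apply hbad
      have key : ∀ c ∈ Γ, ∃ r' ∈ P, (c : AddMonoid.End V) u = r' u0 := fun c hc =>
        ⟨_, hSP _ (hcjS ⟨c, hc⟩ r hr), by
          show _ = (c : AddMonoid.End V) ((r : AddMonoid.End V) (((c⁻¹ : (AddMonoid.End V)ˣ) : AddMonoid.End V) u0))
          rw [hu0 _ (inv_mem hc)]⟩
      obtain ⟨r1, hr1, e1⟩ := key c hc
      obtain ⟨r2, hr2, e2⟩ := key d hd
      rw [e1, e2]; exact hiso r1 hr1 r2 hr2 u0
  have hchR : (p : R) = 0 := Subtype.ext (by rw [Subring.coe_natCast]; exact hch)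
  have hred : ∀ r : R, r * r = 0 → r = 0 := by
    intro r h
    rw [← hpow' r, show q = 2 + (q - 2) by omega, pow_add, pow_two, h, zero_mul]
  have hfixS := fixed_of_cubic hpp h5 hchR hred σ S (hcjS _) hcub
  obtain ⟨m, hm⟩ : ∃ m, Odd m ∧ a ^ m = 1 := by
    obtain ⟨k, hk⟩ := hΓp ⟨a, ha⟩
    exact ⟨p ^ k, (hpp.odd_of_ne_two (by omega)).pow, congrArg Subtype.val hk⟩
  have hiter : ∀ r : R, σ^[m] r = r := by
    have h1 : ∀ j (r : R), (σ^[j] r : AddMonoid.End V) =
        ((a ^ j : (AddMonoid.End V)ˣ) : AddMonoid.End V) * r * (((a ^ j)⁻¹ : (AddMonoid.End V)ˣ) : AddMonoid.End V) := by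
      intro j
      induction j with
      | zero => intro r; simp
      | succ j ih =>
        intro r
        rw [Function.iterate_succ_apply, ih, pow_succ, mul_inv_rev, Units.val_mul, Units.val_mul]
        show _ * ((a : AddMonoid.End V) * r * ((a⁻¹ : (AddMonoid.End V)ˣ) : AddMonoid.End V)) * _ = _
        simp only [mul_assoc]
    intro r
    refine Subtype.ext ?_
    rw [h1, hm.2]; simp
  have hy₀Y : y₀ ∈ Y := ⟨hy₀X, hy₀B⟩
  let wR : (y : (AddMonoid.End V)ˣ) → y ∈ X → R := fun y hy =>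
    ⟨_, R.sub_mem (hXR y hy) (hXR _ (inv_mem hy))⟩
  have hwmem : ∀ x (hx : x ∈ Y) y (hy : y ∈ Y), wR x hx.1 * wR y hy.1 ∈ S := by
    intro x hx y hy
    have e : wR x hx.1 * wR y hy.1 = zR (x * y) (mul_mem hx.1 hy.1) - zR (x * y⁻¹) (mul_mem hx.1 (inv_mem hy.1)) := by
      refine Subtype.ext ?_
      have e1 : (x * y)⁻¹ = x⁻¹ * y⁻¹ := by rw [mul_inv_rev, hXc y⁻¹ (inv_mem hy.1) x⁻¹ (inv_mem hx.1)]
      have e2 : (x * y⁻¹)⁻¹ = x⁻¹ * y := by rw [mul_inv_rev, inv_inv, hXc y hy.1 x⁻¹ (inv_mem hx.1)]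
      show ((x : AddMonoid.End V) - ((x⁻¹ : (AddMonoid.End V)ˣ) : AddMonoid.End V)) *
        ((y : AddMonoid.End V) - ((y⁻¹ : (AddMonoid.End V)ˣ) : AddMonoid.End V)) = z (x * y) - z (x * y⁻¹)
      simp only [hz, e1, e2, Units.val_mul]
      simp only [sub_mul, mul_sub]
      abel
    rw [e]
    exact S.sub_mem (Subring.subset_closure ⟨_, mul_mem hx hy, rfl⟩)
      (Subring.subset_closure ⟨_, mul_mem hx (inv_mem hy), rfl⟩)
  have hσw : σ (wR y₀ hy₀X) = wR (a * y₀ * a⁻¹) (hnorm a ha y₀ hy₀X) := by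
    refine Subtype.ext ?_
    simp [σ, cj, wR, mul_sub, sub_mul, mul_assoc]
  have hw : σ (wR y₀ hy₀X) = wR y₀ hy₀X := by
    refine fixed_unit (q := q) hq (by omega) hpow' σ hm.1 hiter _ (hfixS _ (hwmem _ hy₀Y _ hy₀Y)) ?_
    rw [hσw]
    exact hfixS _ (hwmem _ (hYn a ha y₀ hy₀Y) _ hy₀Y)
  have hzf : σ (zR y₀ hy₀X) = zR y₀ hy₀X := hfixS _ (Subring.subset_closure ⟨y₀, hy₀Y, rfl⟩)
  have hy2 : σ (zR y₀ hy₀X + wR y₀ hy₀X) = zR y₀ hy₀X + wR y₀ hy₀X := by rw [map_add, hzf, hw]
  have hya : (a : AddMonoid.End V) * y₀ * ((a⁻¹ : (AddMonoid.End V)ˣ) : AddMonoid.End V) = y₀ := by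
    set r0 : R := ⟨_, hXR y₀ hy₀X⟩ with hr0
    have h2 : zR y₀ hy₀X + wR y₀ hy₀X = r0 + r0 := by
      refine Subtype.ext ?_
      show z y₀ + ((y₀ : AddMonoid.End V) - ((y₀⁻¹ : (AddMonoid.End V)ˣ) : AddMonoid.End V)) = (y₀ : AddMonoid.End V) + y₀
      simp only [hz]; abel
    rw [h2, map_add] at hy2
    have h4 : (σ r0 - r0) + (σ r0 - r0) = 0 := by
      calc (σ r0 - r0) + (σ r0 - r0) = (σ r0 + σ r0) - (r0 + r0) := by abel
        _ = 0 := by rw [hy2, sub_self]
    obtain ⟨l, hl⟩ : Odd p := hpp.odd_of_ne_two (by omega)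
    have h5' : σ r0 - r0 = 0 := by
      calc σ r0 - r0 = (p : R) * (σ r0 - r0) - (l : R) * ((σ r0 - r0) + (σ r0 - r0)) := by
            rw [hl]; push_cast; ring
        _ = 0 := by rw [hchR, h4, zero_mul, mul_zero, sub_zero]
    exact congrArg Subtype.val (sub_eq_zero.1 h5')
  apply hy₀
  have hya' : a * y₀ = y₀ * a := mul_inv_eq_iff_eq_mul.1 (Units.ext hya)
  refine Subgroup.mem_centralizer_iff.2 fun g hg => ?_
  have hle : B ⊔ Subgroup.zpowers a ≤ Subgroup.centralizer ({y₀} : Set (AddMonoid.End V)ˣ) :=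
    sup_le (fun h hh => Subgroup.mem_centralizer_singleton_iff.2 (Subgroup.mem_centralizer_iff.1 hy₀B h hh))
      (Subgroup.zpowers_le.2 (Subgroup.mem_centralizer_singleton_iff.2 hya'))
  exact Subgroup.mem_centralizer_singleton_iff.1 (hle (hcyc hg))

end CfsgLib.ThompsonJ
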