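import Cfsg.Agent.Lib.ThompsonJ.Core
import Cfsg.Agent.Lib.ConjFunctor.PComplement
import Cfsg.Agent.Lib.PLocal.Families
import Mathlib.GroupTheory.SchurZassenhaus
import Mathlib.Algebra.Polynomial.AlgebraMap

/-!
`p ≥ 5`: in a `p`-constrained group with an abelian `p`-complement modulo `O_p`, every abelian
subgroup of largest order of a Sylow `p`-subgroup lies in `O_p`.
-/

set_option autoImplicit false
set_option linter.style.haveILetI false

namespace CfsgLib.ThompsonJ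

open Polynomial
open scoped commutatorElement

/-- `δ³ u = δ (a^j - 1) u` forces `δ³ u = 0`. -/
theorem cube_eq_zero {V : Type*} [AddCommGroup V] {p : ℕ} (hp : p.Prime) (h5 : 5 ≤ p)
    (hV : ∀ v : V, p • v = 0) (α : AddMonoid.End V) {e : ℕ} (hα : α ^ (p ^ e) = 1) (u : V) (j : ℕ)
    (h : ((α - 1) ^ 3 : AddMonoid.End V) u = ((α - 1) * (α ^ j - 1) : AddMonoid.End V) u) :
    ((α - 1) ^ 3 : AddMonoid.End V) u = 0 := by
  let ev : ℤ[X] →+* AddMonoid.End V := (Polynomial.aeval α).toRingHom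
  have hevX : ev X = α := Polynomial.aeval_X α
  have happ : ∀ (r s : ℤ[X]), ev (r * s) u = ev r (ev s u) := fun r s => by rw [map_mul]; rfl
  have hpz : ev ((p : ℕ) : ℤ[X]) = 0 := by
    rw [map_natCast]; ext v; rw [AddMonoid.End.natCast_def]; exact hV v
  set d : ℤ[X] := X - 1 with hd
  have hevd : ev d = α - 1 := by rw [hd, map_sub, map_one, hevX]
  have hX1 : X = d + 1 := by rw [hd]; ring
  -- nilpotency
  have hnil : ∃ n, ∀ k, n ≤ k → ev (d ^ k) u = 0 := by
    haveI := Fact.mk hp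
    obtain ⟨r, hr⟩ : ∃ r : ℤ[X], (d + 1) ^ p ^ e = d ^ p ^ e + 1 ^ p ^ e + (p : ℤ[X]) * r := by
      obtain ⟨r, hr⟩ := exists_add_pow_prime_pow_eq hp d 1 e
      exact ⟨d * 1 * r, by rw [hr]; ring⟩
    refine ⟨p ^ e, fun k hk => ?_⟩
    have h1 : ev (d ^ p ^ e) = 0 := by
      have := congrArg ev hr
      rw [← hX1, map_pow, hevX, hα, map_add, map_add, one_pow, map_one, map_mul, hpz, zero_mul, add_zero] at this
      simpa using this.symm
    rw [← Nat.sub_add_cancel hk, pow_add, happ, h1]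
    simp
  obtain ⟨n, hn⟩ := hnil
  have h' : ev (d ^ 3) u = ev (d * (X ^ j - 1)) u := by
    simpa [hevd, hevX] using h
  -- a descending step
  have desc : ∀ (s : ℕ), (∀ k, s ≤ k → ev (d ^ (k + 1)) u = 0 → ev (d ^ k) u = 0) → ev (d ^ s) u = 0 := by
    intro s hs
    suffices h0 : ∀ i k, s ≤ k → n ≤ k + i → ev (d ^ k) u = 0 from h0 n s le_rfl (by omega)
    intro i
    induction i with
    | zero => intro k _ hk; exact hn k hk
    | succ i ih => intro k hk hk'; exact hs k hk (ih (k + 1) (by omega) (by omega))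
  suffices h3 : ev (d ^ 3) u = 0 by rwa [map_pow, hevd] at h3
  obtain ⟨T, hT⟩ : ∃ T : ℤ[X], X ^ j - 1 = d * ((j : ℤ[X]) + d * T) := by
    clear h'
    clear h
    induction j with
    | zero => exact ⟨0, by simp⟩
    | succ j ih =>
      obtain ⟨T, hT⟩ := ih
      refine ⟨(j : ℤ[X]) + d * T + T, ?_⟩
      have e : (X : ℤ[X]) ^ (j + 1) - 1 = (X ^ j - 1) * X + (X - 1) := by ring
      rw [e, hT, hX1]
      push_cast; ring
  by_cases hpj : p ∣ j
  · obtain ⟨l, rfl⟩ := hpj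
    obtain ⟨r, hr⟩ := exists_add_pow_prime_eq hp d 1
    obtain ⟨Q, hQ⟩ : ∃ Q : ℤ[X], (X ^ p - 1 : ℤ[X]) ∣ (X ^ (p * l) - 1 : ℤ[X]) ∧ (X ^ (p * l) - 1 : ℤ[X]) = (X ^ p - 1) * Q := by
      have hdvd : (X ^ p - 1 : ℤ[X]) ∣ (X ^ (p * l) - 1 : ℤ[X]) := by
        rw [pow_mul]; simpa using sub_dvd_pow_sub_pow (X ^ p : ℤ[X]) 1 l
      obtain ⟨Q, hQ⟩ := hdvd
      exact ⟨Q, ⟨Q, hQ⟩, hQ⟩
    have hXp : (X ^ p - 1 : ℤ[X]) = d ^ p + (p : ℤ[X]) * (d * 1 * r) := by
      rw [hX1, hr]; ring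
    refine desc 3 fun k hk hk1 => ?_
    have e1 : ev (d ^ k) u = ev (d ^ (k - 3)) (ev (d ^ 3) u) := by
      rw [← happ, ← pow_add, Nat.sub_add_cancel hk]
    rw [e1, h', ← happ, hQ.2, hXp,
      show d ^ (k - 3) * (d * ((d ^ p + (p : ℤ[X]) * (d * 1 * r)) * Q)) =
        (d ^ (k - 3) * d ^ p * d) * Q + (p : ℤ[X]) * (d ^ (k - 3) * d * (d * 1 * r) * Q) by ring,
      map_add, map_mul ev ((p : ℕ) : ℤ[X]), hpz, zero_mul, add_zero, ← pow_add, ← pow_succ,
      show k - 3 + p + 1 = (k - 3 + p + 1 - (k + 1)) + (k + 1) by omega, pow_add,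
      show d ^ (k - 3 + p + 1 - (k + 1)) * d ^ (k + 1) * Q = (d ^ (k - 3 + p + 1 - (k + 1)) * Q) * d ^ (k + 1) by ring,
      happ, hk1, map_zero]
  · obtain ⟨i, hi⟩ : ∃ i : ℤ, (p : ℤ) ∣ (j : ℤ) * i - 1 := by
      have hb := Nat.gcd_eq_gcd_ab j p
      rw [Nat.Coprime.gcd_eq_one ((hp.coprime_iff_not_dvd.2 hpj).symm)] at hb
      exact ⟨j.gcdA p, ⟨-(j.gcdB p), by push_cast at hb; linarith⟩⟩
    obtain ⟨c, hc⟩ := hi
    have h2 : ev (d ^ 2) u = 0 := by
      refine desc 2 fun k hk hk1 => ?_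
      have h5' : ev (d ^ (k - 2) * d ^ 3) u = ev (d ^ (k - 2) * (d * (X ^ j - 1))) u := by
        rw [happ, happ _ (d * _), h']
      rw [hT] at h5'
      have hpoly : d ^ k = (i : ℤ[X]) * (d ^ (k - 2) * (d * (d * ((j : ℤ[X]) + d * T))))
          - ((i : ℤ[X]) * T) * d ^ (k + 1) - (p : ℤ[X]) * ((c : ℤ[X]) * d ^ k) := by
        have hc' : ((j : ℤ[X]) * (i : ℤ[X]) - 1) = (p : ℤ[X]) * (c : ℤ[X]) := by
          exact_mod_cast congrArg (fun z : ℤ => (z : ℤ[X])) hc
        have hk2 : d ^ k = d ^ (k - 2) * d ^ 2 := by rw [← pow_add, Nat.sub_add_cancel hk]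
        rw [pow_succ, hk2]
        linear_combination (-(d ^ (k - 2) * d ^ 2)) * hc'
      have hk3 : d ^ (k - 2) * d ^ 3 = d ^ (k + 1) := by
        rw [← pow_add]; congr 1; omega
      rw [hpoly, map_sub, map_sub, map_mul ev ((p : ℕ) : ℤ[X]), hpz, zero_mul, sub_zero]
      show ev ((i : ℤ[X]) * _) u - ev (((i : ℤ[X]) * T) * _) u = 0
      rw [happ (i : ℤ[X]), ← h5', hk3, happ ((i : ℤ[X]) * T), hk1, map_zero, map_zero, sub_zero]
    rw [show (3 : ℕ) = 1 + 2 by rfl, pow_add, happ, h2, map_zero]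

universe u

variable {p : ℕ} [hp : Fact p.Prime] {H : Type u} [Group H] [Finite H]

/-- A step fixed by the acting `p'`-element is trivial. -/
theorem step_eq_one {Q : Subgroup H} (hQ : IsPGroup p Q) {x k d : H} (hx : (orderOf x).Coprime p)
    (hd : d ∈ Q) (h1 : x * k * x⁻¹ = k * d) (h2 : x * d * x⁻¹ = d) : d = 1 := by
  have hi : ∀ i : ℕ, x ^ i * k * (x ^ i)⁻¹ = k * d ^ i := by
    intro i
    induction i with
    | zero => simp
    | succ i ih =>
      calc x ^ (i + 1) * k * (x ^ (i + 1))⁻¹ = x * (x ^ i * k * (x ^ i)⁻¹) * x⁻¹ := by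
            rw [pow_succ']; group
        _ = (x * k * x⁻¹) * (x * d * x⁻¹) ^ i := by rw [ih, conj_pow]; group
        _ = k * d ^ (i + 1) := by rw [h1, h2, pow_succ', mul_assoc]
  have h3 := hi (orderOf x)
  rw [pow_orderOf_eq_one, one_mul, inv_one, mul_one] at h3
  have h4 : d ^ orderOf x = 1 := mul_left_cancel (a := k) (by rw [mul_one, ← h3])
  obtain ⟨j, hj⟩ := hQ ⟨d, hd⟩
  exact orderOf_eq_one_iff.1 (Nat.eq_one_of_dvd_coprimes (hx.pow_right j) (orderOf_dvd_of_pow_eq_one h4)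
    (orderOf_dvd_of_pow_eq_one (by simpa using congrArg Subtype.val hj)))

/-- The main lemma. -/
theorem maxAb_le_pCore (h5 : 5 ≤ p) (hcon : Subgroup.centralizer (Cfsg.pCore p H : Set H) ≤ Cfsg.pCore p H)
    (hnice : CfsgLib.ConjFunctor.Nice p H) (S : Sylow p H) {A : Subgroup H}
    (hA : CfsgLib.PLoc.IsMaxAb 0 (S : Subgroup H) A) : A ≤ Cfsg.pCore p H := by
  classical
  have hpp := hp.out
  haveI hPn := CfsgLib.Solvable.pCore_normal p H
  set P := Cfsg.pCore p H with hP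
  have hPp : IsPGroup p P := CfsgLib.Solvable.pCore_isPGroup p H
  have hPS : P ≤ (S : Subgroup H) := CfsgLib.Solvable.pCore_le_sylow S
  haveI := hA.comm
  have hAc : ∀ a ∈ A, ∀ b ∈ A, a * b = b * a := fun a ha b hb =>
    congrArg Subtype.val ((inferInstance : IsMulCommutative A).is_comm.comm (⟨a, ha⟩ : A) ⟨b, hb⟩)
  obtain ⟨P0, A0, hP0n, hA0n, hP0p, hA0c, hA0idx, hA0m⟩ := hnice
  have hP0P : P0 ≤ P := CfsgLib.Solvable.le_pCore hP0n hP0p
  by_contra hAP
  -- a `p'`-complement in `A0`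
  obtain ⟨X0, hX0A, hX0c, hX0p, hX0dec⟩ : ∃ X0 : Subgroup H, X0 ≤ A0 ∧ (∀ x ∈ X0, ∀ y ∈ X0, x * y = y * x) ∧
      (Nat.card X0).Coprime p ∧ ∀ g ∈ A0, ∃ x ∈ X0, x⁻¹ * g ∈ P := by
    haveI : (P0.subgroupOf A0).Normal := Subgroup.normal_subgroupOf
    have hq : (Nat.card (A0 ⧸ P0.subgroupOf A0)).Coprime p := by
      refine (hpp.coprime_iff_not_dvd.2 fun hd => ?_).symm
      obtain ⟨y, hy⟩ := exists_prime_orderOf_dvd_card' p hd
      obtain ⟨g, rfl⟩ := QuotientGroup.mk'_surjective _ y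
      obtain ⟨m, hm, hmP⟩ := hA0m g g.2
      have h1 : (QuotientGroup.mk' (P0.subgroupOf A0) g) ^ m = 1 := by
        rw [← map_pow]
        exact (QuotientGroup.eq_one_iff _).2 (by rwa [Subgroup.mem_subgroupOf, SubmonoidClass.coe_pow])
      have h2 := orderOf_dvd_of_pow_eq_one h1
      rw [hy] at h2
      exact hpp.one_lt.ne' (Nat.eq_one_of_dvd_coprimes hm h2 dvd_rfl)
    have hcop : (Nat.card (P0.subgroupOf A0)).Coprime (P0.subgroupOf A0).index := by
      obtain ⟨n, hn⟩ := IsPGroup.iff_card.1 (hP0p.comap_of_injective A0.subtype A0.subtype_injective)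
      rw [Subgroup.index_eq_card]
      show (Nat.card (P0.comap A0.subtype)).Coprime _
      rw [hn]
      exact (hq.symm).pow_left n
    obtain ⟨C, hC⟩ := Subgroup.exists_right_complement'_of_coprime hcop
    refine ⟨C.map A0.subtype, Subgroup.map_subtype_le C, ?_, ?_, fun g hg => ?_⟩
    · rintro _ ⟨x, hx, rfl⟩ _ ⟨y, hy, rfl⟩
      have hxy : ⁅x, y⁆ ∈ C := C.mul_mem (C.mul_mem (C.mul_mem hx hy) (C.inv_mem hx)) (C.inv_mem hy)
      have hmem : ⁅x, y⁆ ∈ P0.subgroupOf A0 := hA0c x x.2 y y.2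
      have h1 := Subgroup.disjoint_def.1 hC.disjoint hmem hxy
      exact congrArg Subtype.val (commutatorElement_eq_one_iff_mul_comm.1 h1)
    · rw [Subgroup.card_map_of_injective A0.subtype_injective]
      have : Nat.card C = Nat.card (A0 ⧸ P0.subgroupOf A0) := by
        rw [← Subgroup.index_eq_card]; exact (hC.symm.index_eq_card).symm
      rwa [this]
    · obtain ⟨⟨⟨n, hn⟩, ⟨c, hc⟩⟩, hnc⟩ := hC.2 ⟨g, hg⟩
      refine ⟨c, Subgroup.mem_map_of_mem _ hc, ?_⟩
      have hg' : g = (n : H) * c := congrArg Subtype.val hnc.symm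
      rw [hg']
      simpa [mul_assoc] using hPn.conj_mem n (hP0P hn) (c : H)⁻¹
  set f := QuotientGroup.mk' P with hf
  have hfeq : ∀ {x g : H}, x⁻¹ * g ∈ P → f g = f x := fun {x g} h => (QuotientGroup.eq.2 h).symm
  -- some element of `A` moves `A0` modulo `P`
  obtain ⟨a₁, ha₁, x₁, hx₁, hne₁⟩ : ∃ a ∈ A, ∃ x ∈ X0, f (x * a * x⁻¹ * a⁻¹) ≠ 1 := by
    by_contra hno
    push Not at hno
    apply hAP
    set N := (S : Subgroup H) ⊓ (Subgroup.centralizer (A0.map f : Set (H ⧸ P))).comap f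
    have hAN : A ≤ N := by
      refine le_inf hA.le fun a ha => ?_
      refine Subgroup.mem_centralizer_iff.2 ?_
      rintro _ ⟨g, hg, rfl⟩
      obtain ⟨x, hx, hxg⟩ := hX0dec g hg
      rw [hfeq hxg]
      have := hno a ha x hx
      rw [map_mul, map_mul, map_mul, map_inv, map_inv, mul_inv_eq_one, mul_inv_eq_iff_eq_mul] at this
      exact this
    haveI : (A0.map f).Normal := hA0n.map f (QuotientGroup.mk'_surjective P)
    have hNn : N.Normal := by
      rw [← Subgroup.normalizer_eq_top_iff, eq_top_iff]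
      have hsup : (S : Subgroup H) ⊔ A0 = ⊤ := by
        have hpq : IsPGroup p (H ⧸ A0) := by
          intro y
          obtain ⟨x, rfl⟩ := QuotientGroup.mk'_surjective A0 y
          obtain ⟨k, hk⟩ := hA0idx x
          exact ⟨k, by rw [← map_pow]; exact (QuotientGroup.eq_one_iff _).2 hk⟩
        obtain ⟨n, hn⟩ := IsPGroup.iff_card.1 hpq
        rw [← Subgroup.index_eq_card] at hn
        exact Subgroup.index_eq_one.1 (Nat.eq_one_of_dvd_coprimes
          ((hpp.coprime_iff_not_dvd.2 S.not_dvd_index).pow_left n).symm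
          (Subgroup.index_dvd_of_le le_sup_left) (hn ▸ Subgroup.index_dvd_of_le le_sup_right))
      rw [← hsup]
      refine sup_le (fun s hs => Subgroup.inf_normalizer_le_normalizer_inf ⟨Subgroup.le_normalizer hs, ?_⟩) ?_
      · rw [Subgroup.normalizer_eq_top_iff.2 inferInstance]; trivial
      · intro g hg
        refine Subgroup.mem_normalizer_fintype fun n hn => ?_
        have hcomm : f (n * g) = f (g * n) := by
          rw [map_mul, map_mul]
          exact (Subgroup.mem_centralizer_iff.1 hn.2 (f g) (Subgroup.mem_map_of_mem f hg)).symm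
        have hπ : g * n * g⁻¹ * n⁻¹ ∈ P := by
          refine (QuotientGroup.eq_one_iff _).1 (show f _ = 1 from ?_)
          rw [map_mul, map_mul _ (g * n), ← hcomm, map_mul, map_inv, map_inv]; group
        have hPN : P ≤ N := le_inf hPS fun y hy => by
          rw [Subgroup.mem_comap, show f y = 1 from (QuotientGroup.eq_one_iff y).2 hy]
          exact one_mem _
        have := N.mul_mem (hPN hπ) hn
        rwa [inv_mul_cancel_right] at this
    exact hAN.trans (CfsgLib.Solvable.le_pCore hNn (S.isPGroup'.to_le inf_le_left))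
  -- the moved part
  set Cb := Subgroup.closure {y : H ⧸ P | ∃ a ∈ A, ∃ x ∈ X0, y = f (x * a * x⁻¹ * a⁻¹)} with hCb
  set X2 := X0 ⊓ Cb.comap f with hX2
  have hA0X2 : ∀ g ∈ A0, f g ∈ Cb → ∃ x ∈ X2, x⁻¹ * g ∈ P := by
    intro g hg hgC
    obtain ⟨x, hx, hxg⟩ := hX0dec g hg
    exact ⟨x, ⟨hx, Subgroup.mem_comap.2 (by rw [← hfeq hxg]; exact hgC)⟩, hxg⟩
  have hX2p : ∀ x ∈ X2, (orderOf x).Coprime p := fun x hx =>
    hX0p.coprime_dvd_left (Subgroup.orderOf_dvd_natCard X0 hx.1)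
  set Fix := Subgroup.centralizer (X2 : Set H) with hFix
  -- a minimal normal subgroup moved by `X2`
  obtain ⟨K, hKS, hKmin⟩ := Set.Finite.exists_minimal
    (Set.toFinite {K : Subgroup H | K.Normal ∧ K ≤ P ∧ ¬ K ≤ Fix}) ⟨P, hPn, le_rfl, by
      intro hle
      have hg : x₁ * a₁ * x₁⁻¹ * a₁⁻¹ ∈ A0 := by
        have := A0.mul_mem (hX0A hx₁) (hA0n.conj_mem _ (A0.inv_mem (hX0A hx₁)) a₁)
        simpa [mul_assoc] using this
      obtain ⟨x, hx, hxg⟩ := hA0X2 _ hg (Subgroup.subset_closure ⟨a₁, ha₁, x₁, hx₁, rfl⟩)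
      apply hne₁
      rw [hfeq hxg]
      exact (QuotientGroup.eq_one_iff x).2 (hcon fun y hy => (hle hy x hx).symm)⟩
  obtain ⟨hKn, hKP, hKF⟩ := hKS
  haveI := hKn
  have hmin : ∀ L : Subgroup H, L.Normal → L ≤ K → L ≠ K → L ≤ Fix := by
    intro L hL hLK hne
    by_contra h
    exact hne (le_antisymm hLK (hKmin ⟨hL, hLK.trans hKP, h⟩ hLK))
  have hK1 : K ≠ ⊥ := fun h => hKF (h ▸ bot_le)
  obtain ⟨N, hNS, hNmax⟩ := Set.Finite.exists_maximal
    (Set.toFinite {L : Subgroup H | L.Normal ∧ L < K}) ⟨⊥, inferInstance, bot_lt_iff_ne_bot.2 hK1⟩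
  obtain ⟨hNn, hNK⟩ := hNS
  haveI := hNn
  have hNF : N ≤ Fix := hmin N hNn hNK.le hNK.ne
  have hmax : ∀ L : Subgroup H, L.Normal → N ≤ L → L ≤ K → ¬ L ≤ N → L = K := by
    intro L hL hNL hLK h
    by_contra hne
    exact h (hNmax ⟨hL, lt_of_le_of_ne hLK hne⟩ hNL)
  have hfixN : ∀ x ∈ X2, ∀ n ∈ N, x * n * x⁻¹ = n := fun x hx n hn => by
    rw [hNF hn x hx, mul_inv_cancel_right]
  have hKfix : ∀ x ∈ X2, ∀ k ∈ K, x * k * x⁻¹ = k → k * x = x * k := fun x _ k _ h => by
    conv_lhs => rw [← h]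
    rw [inv_mul_cancel_right]
  -- `N` is central in `K`
  have hNZ : ∀ k ∈ K, ∀ n ∈ N, k * n = n * k := by
    have hCn : (K ⊓ Subgroup.centralizer (N : Set H)).Normal := inferInstance
    suffices h : K ⊓ Subgroup.centralizer (N : Set H) = K by
      intro k hk n hn
      rw [← h] at hk
      exact (hk.2 n hn).symm
    by_contra hne
    refine hKF fun k hk => Subgroup.mem_centralizer_iff.2 fun x hx => ?_
    have hC := hmin _ hCn inf_le_left hne
    set d := k⁻¹ * (x * k * x⁻¹) with hd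
    have hdK : d ∈ K := K.mul_mem (K.inv_mem hk) (hKn.conj_mem k hk x)
    have hdC : d ∈ Subgroup.centralizer (N : Set H) := by
      refine Subgroup.mem_centralizer_iff.2 fun n hn => ?_
      have e1 := hfixN x hx _ (hNn.conj_mem n hn k)
      have e2 := hfixN x hx n hn
      have e3 : x⁻¹ * n * x = n := by
        conv_lhs => rw [← e2]
        group
      calc n * d = k⁻¹ * (k * n * k⁻¹) * (x * k * x⁻¹) := by rw [hd]; group
        _ = k⁻¹ * (x * (k * n * k⁻¹) * x⁻¹) * (x * k * x⁻¹) := by rw [e1]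
        _ = k⁻¹ * (x * k * n * x⁻¹) := by group
        _ = k⁻¹ * (x * k * (x⁻¹ * n * x) * x⁻¹) := by rw [e3]
        _ = d * n := by rw [hd]; group
    have hdx : x * d * x⁻¹ = d := by rw [hC ⟨hdK, hdC⟩ x hx, mul_inv_cancel_right]
    have hd1 := step_eq_one hPp (hX2p x hx) (hKP hdK) (k := k) (by rw [hd]; group) hdx
    rw [hd, inv_mul_eq_one] at hd1
    exact (hKfix x hx k hk hd1.symm).symm
  -- `P` acts trivially on `K / N`
  have hNcomm : ∀ k ∈ K, ∀ π ∈ P, π * k * π⁻¹ * k⁻¹ ∈ N := by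
    let F : Subgroup H :=
      { carrier := {k | k ∈ K ∧ ∀ π ∈ P, π * k * π⁻¹ * k⁻¹ ∈ N}
        one_mem' := ⟨K.one_mem, fun π _ => by simp⟩
        mul_mem' := fun {k l} hk hl => ⟨K.mul_mem hk.1 hl.1, fun π hπ => by
          have := N.mul_mem (hk.2 π hπ) (hNn.conj_mem _ (hl.2 π hπ) k)
          simpa [mul_assoc] using this⟩
        inv_mem' := fun {k} hk => ⟨K.inv_mem hk.1, fun π hπ => by
          have := hNn.conj_mem _ (N.inv_mem (hk.2 π hπ)) k⁻¹
          simpa [mul_assoc] using this⟩ }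
    haveI hFn : F.Normal := ⟨fun k hk g => ⟨hKn.conj_mem k hk.1 g, fun π hπ => by
      have := hNn.conj_mem _ (hk.2 (g⁻¹ * π * g⁻¹⁻¹) (hPn.conj_mem π hπ g⁻¹)) g
      simpa [mul_assoc] using this⟩⟩
    have hNF' : N ≤ F := fun n hn => ⟨hNK.le hn, fun π _ => N.mul_mem (hNn.conj_mem n hn π) (N.inv_mem hn)⟩
    suffices h : F = K by intro k hk; exact (h ▸ hk : k ∈ F).2
    refine hmax F hFn hNF' (fun k hk => hk.1) fun hle => ?_
    haveI hN'n : (N.subgroupOf K).Normal := Subgroup.normal_subgroupOf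
    letI : MulAction P (↥K ⧸ N.subgroupOf K) :=
      MulAction.compHom _ ({
          toFun := fun π => (QuotientGroup.congr (N.subgroupOf K) (N.subgroupOf K) (MulAut.conjNormal (π : H))
            (by
              ext y
              simp only [Subgroup.mem_map, Subgroup.mem_subgroupOf]
              constructor
              · rintro ⟨z, hz, rfl⟩
                simpa using hNn.conj_mem _ hz (π : H)
              · intro hy
                refine ⟨(MulAut.conjNormal (π : H))⁻¹ y, ?_, ?_⟩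
                · simpa using hNn.conj_mem _ hy (π : H)⁻¹
                · simp)).toEquiv
          map_one' := by
            ext y
            obtain ⟨k, rfl⟩ := QuotientGroup.mk'_surjective _ y
            simp
          map_mul' := fun π π' => by
            ext y
            obtain ⟨k, rfl⟩ := QuotientGroup.mk'_surjective _ y
            simp } : P →* Equiv.Perm (↥K ⧸ N.subgroupOf K))
    have hsmul : ∀ (π : P) (k : K), π • (QuotientGroup.mk' (N.subgroupOf K) k) =
        QuotientGroup.mk' (N.subgroupOf K) (MulAut.conjNormal (π : H) k) := fun π k => rfl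
    have hdv : p ∣ Nat.card (↥K ⧸ N.subgroupOf K) := by
      obtain ⟨n, hn⟩ := IsPGroup.iff_card.1 ((hPp.to_le hKP).to_quotient (N.subgroupOf K))
      rw [hn]
      refine dvd_pow_self p ?_
      rintro rfl
      rw [pow_zero, ← Subgroup.index_eq_card, Subgroup.index_eq_one, Subgroup.subgroupOf_eq_top] at hn
      exact hNK.not_ge hn
    obtain ⟨b, hb, hb1⟩ := hPp.exists_fixed_point_of_prime_dvd_card_of_fixed_point _ hdv
      (a := QuotientGroup.mk' (N.subgroupOf K) 1) (fun π => by rw [hsmul, map_one])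
    obtain ⟨⟨k, hk⟩, rfl⟩ := QuotientGroup.mk'_surjective _ b
    apply hb1
    symm
    rw [map_one]
    refine (QuotientGroup.eq_one_iff _).2 (Subgroup.mem_subgroupOf.2 (hle ⟨hk, fun π hπ => ?_⟩))
    have h1 := hb ⟨π, hπ⟩
    rw [hsmul] at h1
    have h2 := Subgroup.mem_subgroupOf.1 (QuotientGroup.eq.1 h1.symm)
    have h3 := hNn.conj_mem _ h2 k
    simpa [mul_assoc] using h3
  have hKN' : ∀ k ∈ K, ∀ l ∈ K, k * l * k⁻¹ * l⁻¹ ∈ N := fun k hk l hl => hNcomm l hl k (hKP hk)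
  haveI hN'n : (N.subgroupOf K).Normal := Subgroup.normal_subgroupOf
  letI instCG : CommGroup (↥K ⧸ N.subgroupOf K) :=
    { (inferInstance : Group (↥K ⧸ N.subgroupOf K)) with
      mul_comm := fun a b => by
        obtain ⟨k, rfl⟩ := QuotientGroup.mk'_surjective _ a
        obtain ⟨l, rfl⟩ := QuotientGroup.mk'_surjective _ b
        rw [← map_mul, ← map_mul]
        refine QuotientGroup.eq.2 (Subgroup.mem_subgroupOf.2 ?_)
        have := hNn.conj_mem _ (N.inv_mem (hKN' k k.2 l l.2)) ((l : H) * k)⁻¹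
        simpa [mul_assoc] using this }
  have hexp : ∀ k ∈ K, k ^ p ∈ N := by
    have hpow : ∀ k l : ↥K, QuotientGroup.mk' (N.subgroupOf K) ((k * l) ^ p) =
        QuotientGroup.mk' (N.subgroupOf K) (k ^ p * l ^ p) := fun k l => by
      simp only [map_pow, map_mul]; exact mul_pow _ _ p
    let F : Subgroup H :=
      { carrier := {k | k ∈ K ∧ k ^ p ∈ N}
        one_mem' := ⟨K.one_mem, by simp⟩
        mul_mem' := fun {k l} hk hl => ⟨K.mul_mem hk.1 hl.1, by
          have h1 := Subgroup.mem_subgroupOf.1 (QuotientGroup.eq.1 (hpow ⟨k, hk.1⟩ ⟨l, hl.1⟩))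
          simp at h1
          have h2 := N.mul_mem (N.mul_mem hk.2 hl.2) (N.inv_mem h1)
          simpa [mul_assoc] using h2⟩
        inv_mem' := fun {k} hk => ⟨K.inv_mem hk.1, by rw [inv_pow]; exact N.inv_mem hk.2⟩ }
    haveI hFn : F.Normal := ⟨fun k hk g => ⟨hKn.conj_mem k hk.1 g, by
      rw [conj_pow]; exact hNn.conj_mem _ hk.2 g⟩⟩
    suffices h : F = K by intro k hk; exact (h ▸ hk : k ∈ F).2
    refine hmax F hFn (fun n hn => ⟨hNK.le hn, N.pow_mem hn p⟩) (fun k hk => hk.1) fun hle => ?_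
    have hdv : p ∣ Nat.card (↥K ⧸ N.subgroupOf K) := by
      obtain ⟨n, hn⟩ := IsPGroup.iff_card.1 ((hPp.to_le hKP).to_quotient (N.subgroupOf K))
      rw [hn]
      refine dvd_pow_self p ?_
      rintro rfl
      rw [pow_zero, ← Subgroup.index_eq_card, Subgroup.index_eq_one, Subgroup.subgroupOf_eq_top] at hn
      exact hNK.not_ge hn
    obtain ⟨y, hy⟩ := exists_prime_orderOf_dvd_card' p hdv
    obtain ⟨⟨k, hk⟩, rfl⟩ := QuotientGroup.mk'_surjective _ y
    have h1 : QuotientGroup.mk' (N.subgroupOf K) (⟨k, hk⟩ ^ p) = 1 := by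
      rw [map_pow, ← hy, pow_orderOf_eq_one]
    have h2 : k ∈ F := ⟨hk, by simpa using Subgroup.mem_subgroupOf.1 ((QuotientGroup.eq_one_iff _).1 h1)⟩
    have h3 : QuotientGroup.mk' (N.subgroupOf K) ⟨k, hk⟩ = 1 :=
      (QuotientGroup.eq_one_iff _).2 (Subgroup.mem_subgroupOf.2 (hle h2))
    rw [h3, orderOf_one] at hy
    exact hpp.one_lt.ne hy
  -- the module
  let V := Additive (↥K ⧸ N.subgroupOf K)
  let mk : ↥K → V := fun k => Additive.ofMul (QuotientGroup.mk' (N.subgroupOf K) k)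
  have mk_surj : ∀ v : V, ∃ k, mk k = v := fun v => by
    obtain ⟨k, hk⟩ := QuotientGroup.mk'_surjective _ v.toMul
    exact ⟨k, congrArg Additive.ofMul hk⟩
  have mk_mul : ∀ k l, mk (k * l) = mk k + mk l := fun k l => by simp [mk]
  have mk_eq : ∀ k l : ↥K, mk k = mk l ↔ (k : H)⁻¹ * l ∈ N := fun k l => by
    simp only [mk, EmbeddingLike.apply_eq_iff_eq, QuotientGroup.mk'_apply, QuotientGroup.eq,
      Subgroup.mem_subgroupOf]
    simp
  let conjV : H → AddMonoid.End V := fun g => MonoidHom.toAdditive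
    (QuotientGroup.map (N.subgroupOf K) (N.subgroupOf K) (MulAut.conjNormal g).toMonoidHom
      (fun k hk => by
        rw [Subgroup.mem_comap, Subgroup.mem_subgroupOf]
        simpa using hNn.conj_mem _ hk g))
  have conjV_mk : ∀ (g : H) (k : ↥K), conjV g (mk k) = mk (MulAut.conjNormal g k) := fun g k => rfl
  let ψ : H →* AddMonoid.End V :=
    { toFun := conjV
      map_one' := by
        ext v
        obtain ⟨k, rfl⟩ := mk_surj v
        rw [conjV_mk]
        simp
      map_mul' := fun g g' => AddMonoidHom.ext fun v => by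
        obtain ⟨k, rfl⟩ := mk_surj v
        show conjV (g * g') (mk k) = conjV g (conjV g' (mk k))
        rw [conjV_mk, conjV_mk, conjV_mk, map_mul, MulAut.mul_apply] }
  let φ : H →* (AddMonoid.End V)ˣ := ψ.toHomUnits
  have φ_mk : ∀ (g : H) (k : ↥K), (φ g : AddMonoid.End V) (mk k) = mk (MulAut.conjNormal g k) := fun g k => rfl
  have φP : P ≤ φ.ker := fun π hπ => by
    refine Units.ext (AddMonoidHom.ext fun v => ?_)
    obtain ⟨k, rfl⟩ := mk_surj v
    show (φ π : AddMonoid.End V) (mk k) = mk k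
    rw [φ_mk, eq_comm, mk_eq]
    have := hNn.conj_mem _ (hNcomm k k.2 π hπ) (k : H)⁻¹
    simpa [mul_assoc] using this
  let φb : H ⧸ P →* (AddMonoid.End V)ˣ := QuotientGroup.lift P φ φP
  have φf : ∀ g, φb (f g) = φ g := fun g => rfl
  -- `A` moves the image of `X2`
  have hmove : ∃ g ∈ A.map φ, ∃ x ∈ X2.map φ, g * x ≠ x * g := by
    by_contra hno
    push Not at hno
    refine hKF fun k hk => Subgroup.mem_centralizer_iff.2 fun x hx => ?_
    have hCk : Cb ≤ φb.ker := by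
      rw [hCb, Subgroup.closure_le]
      rintro _ ⟨a, ha, y, hy, rfl⟩
      rw [SetLike.mem_coe, MonoidHom.mem_ker, φf]
      set g := φ (y * a * y⁻¹ * a⁻¹) with hg
      have hgA : y * a * y⁻¹ * a⁻¹ ∈ A0 := by
        have := A0.mul_mem (hX0A hy) (hA0n.conj_mem _ (A0.inv_mem (hX0A hy)) a)
        simpa [mul_assoc] using this
      obtain ⟨x', hx', hx'g⟩ := hA0X2 _ hgA (Subgroup.subset_closure ⟨a, ha, y, hy, rfl⟩)
      have hgx : g = φ x' := by rw [hg, ← φf, hfeq hx'g, φf]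
      have hcg : φ a * g = g * φ a := by
        rw [hgx]; exact hno _ (Subgroup.mem_map_of_mem φ ha) _ (Subgroup.mem_map_of_mem φ hx')
      have hconj : φ y * φ a * (φ y)⁻¹ = g * φ a := by rw [hg]; simp [mul_assoc]
      have hn : ∀ n : ℕ, φ y * φ a ^ n * (φ y)⁻¹ = g ^ n * φ a ^ n := fun n => by
        rw [← conj_pow, hconj, (show Commute g (φ a) from hcg.symm).mul_pow]
      have h1 := hn (orderOf a)
      rw [← map_pow, pow_orderOf_eq_one, map_one, mul_one, mul_inv_cancel, mul_one] at h1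
      have h2 : g ^ orderOf x' = 1 := by rw [hgx, ← map_pow, pow_orderOf_eq_one, map_one]
      obtain ⟨e, he⟩ := IsPGroup.iff_orderOf.1 (S.isPGroup'.to_le hA.le) ⟨a, ha⟩
      rw [Subgroup.orderOf_mk] at he
      rw [he] at h1
      exact orderOf_eq_one_iff.1 (Nat.eq_one_of_dvd_coprimes ((hX2p x' hx').pow_right e)
        (orderOf_dvd_of_pow_eq_one h2) (orderOf_dvd_of_pow_eq_one h1.symm))
    have hφx : φ x = 1 := hCk hx.2
    have h1 := φ_mk x ⟨k, hk⟩
    rw [hφx] at h1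
    have h1' : mk ⟨k, hk⟩ = mk (MulAut.conjNormal x ⟨k, hk⟩) := h1
    rw [mk_eq] at h1'
    simp only [MulAut.conjNormal_apply] at h1'
    have hd1 := step_eq_one hPp (hX2p x hx) (hKP (hNK.le h1')) (k := k) (by group)
      (hfixN x hx _ h1')
    rw [inv_mul_eq_one] at hd1
    exact (hKfix x hx k hk hd1.symm).symm
  -- the form
  have hZc : ∀ k l : ↥K, ⁅k, l⁆ ∈ Subgroup.center ↥K := fun k l => Subgroup.mem_center_iff.2 fun m =>
    Subtype.ext (hNZ m m.2 _ (by simpa [commutatorElement_def] using hKN' k k.2 l l.2))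
  letI : CommGroup (Subgroup.center ↥K) :=
    { (inferInstance : Group (Subgroup.center ↥K)) with
      mul_comm := fun a b => Subtype.ext (Subgroup.mem_center_iff.1 b.2 a.1) }
  let cf : ↥K → ↥K → Additive (Subgroup.center ↥K) := fun k l => Additive.ofMul ⟨⁅k, l⁆, hZc k l⟩
  have cf_mul_left : ∀ k k' l, cf (k * k') l = cf k l + cf k' l := fun k k' l => by
    apply Additive.toMul.injective
    rw [toMul_add]
    apply Subtype.ext
    show ⁅k * k', l⁆ = ⁅k, l⁆ * ⁅k', l⁆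
    have hc := Subgroup.mem_center_iff.1 (hZc k' l) k
    calc ⁅k * k', l⁆ = (k * ⁅k', l⁆) * k⁻¹ * ⁅k, l⁆ := by simp only [commutatorElement_def]; group
      _ = ⁅k', l⁆ * ⁅k, l⁆ := by rw [hc, mul_inv_cancel_right]
      _ = _ := ((Subgroup.mem_center_iff.1 (hZc k' l)) ⁅k, l⁆).symm
  have cf_self : ∀ k, cf k k = 0 := fun k => by
    apply Additive.toMul.injective
    exact Subtype.ext (commutatorElement_self k)
  have cf_swap : ∀ k l, cf l k = -cf k l := fun k l => by
    apply Additive.toMul.injective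
    exact Subtype.ext (commutatorElement_inv k l).symm
  have cf_mul_right : ∀ k l l', cf k (l * l') = cf k l + cf k l' := fun k l l' => by
    rw [cf_swap, cf_mul_left, cf_swap k l, cf_swap k l']; abel
  have cf_N : ∀ (k : ↥K) (n : ↥K), (n : H) ∈ N → cf k n = 0 := fun k n hn => by
    apply Additive.toMul.injective
    refine Subtype.ext ?_
    exact commutatorElement_eq_one_iff_mul_comm.2 (Subtype.ext (hNZ k k.2 n hn))
  let Bf : V → V → Additive (Subgroup.center ↥K) := fun v w => cf (mk_surj v).choose (mk_surj w).choose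
  have cf_congr : ∀ k k' l, mk k = mk k' → cf l k = cf l k' := fun k k' l h => by
    have h1 : cf l (k⁻¹ * k') = 0 := cf_N _ _ (by simpa using (mk_eq k k').1 h)
    rw [← mul_inv_cancel_left k k', cf_mul_right, h1, add_zero]
  have Bf_mk : ∀ k l, Bf (mk k) (mk l) = cf k l := fun k l => by
    show cf (mk_surj (mk k)).choose (mk_surj (mk l)).choose = _
    rw [cf_congr _ l _ (mk_surj (mk l)).choose_spec, cf_swap, cf_congr _ k _ (mk_surj (mk k)).choose_spec,
      ← cf_swap]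
  have hVp : ∀ v : V, p • v = 0 := fun v => by
    obtain ⟨k, rfl⟩ := mk_surj v
    show Additive.ofMul ((QuotientGroup.mk' (N.subgroupOf K) k) ^ p) = 0
    rw [← map_pow]
    refine congrArg Additive.ofMul ((QuotientGroup.eq_one_iff _).2 ?_)
    rw [Subgroup.mem_subgroupOf, SubmonoidClass.coe_pow]
    exact hexp k k.2
  haveI : IsMulCommutative (A.map φ) := Subgroup.map_isMulCommutative A (f := φ)
  obtain ⟨_, ⟨a, ha, rfl⟩, u, hj, hcube, hiso⟩ := exists_witness h5 hVp (X2.map φ) (A.map φ)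
    (by rintro _ ⟨x, hx, rfl⟩ _ ⟨y, hy, rfl⟩; rw [← map_mul, ← map_mul, hX0c x hx.1 y hy.1])
    (hX0p.coprime_dvd_left ((Subgroup.card_map_dvd X2 φ).trans (Subgroup.card_dvd_of_le inf_le_left)))
    ((S.isPGroup'.to_le hA.le).map φ)
    (by
      rintro _ ⟨a, ha, rfl⟩ _ ⟨x, hx, rfl⟩
      have hg : a * x * a⁻¹ ∈ A0 := hA0n.conj_mem x (hX0A hx.1) a
      have hgC : f (a * x * a⁻¹) ∈ Cb := by
        have hinv : Cb ≤ Cb.comap (MulAut.conj (f a)).toMonoidHom := by
          rw [hCb, Subgroup.closure_le]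
          rintro _ ⟨c, hc, y, hy, rfl⟩
          obtain ⟨y', hy', hyy⟩ := hX0dec (a * y * a⁻¹) (hA0n.conj_mem y (hX0A hy) a)
          refine Subgroup.subset_closure ⟨c, hc, y', hy', ?_⟩
          show f a * f (y * c * y⁻¹ * c⁻¹) * (f a)⁻¹ = f (y' * c * y'⁻¹ * c⁻¹)
          have e2 : f a * f c * (f a)⁻¹ = f c := by
            rw [← map_mul, hAc a ha c hc, map_mul, mul_inv_cancel_right]
          simp only [map_mul, map_inv, ← hfeq hyy]
          calc _ = (f a * f y * (f a)⁻¹) * (f a * f c * (f a)⁻¹) * (f a * f y * (f a)⁻¹)⁻¹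
                * (f a * f c * (f a)⁻¹)⁻¹ := by group
            _ = _ := by rw [e2]
        have := hinv hx.2
        simpa using this
      obtain ⟨x', hx', hxx⟩ := hA0X2 _ hg hgC
      refine ⟨x', hx', ?_⟩
      rw [← φf, ← hfeq hxx, φf, map_mul, map_mul, map_inv])
    hmove Bf
    (fun v v' w => by
      obtain ⟨k, rfl⟩ := mk_surj v; obtain ⟨k', rfl⟩ := mk_surj v'; obtain ⟨l, rfl⟩ := mk_surj w
      rw [← mk_mul, Bf_mk, Bf_mk, Bf_mk, cf_mul_left])
    (fun v w w' => by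
      obtain ⟨k, rfl⟩ := mk_surj v; obtain ⟨l, rfl⟩ := mk_surj w; obtain ⟨l', rfl⟩ := mk_surj w'
      rw [← mk_mul, Bf_mk, Bf_mk, Bf_mk, cf_mul_right])
    (fun v => by obtain ⟨k, rfl⟩ := mk_surj v; rw [Bf_mk, cf_self])
    (by
      rintro _ ⟨x, hx, rfl⟩ v w
      obtain ⟨k, rfl⟩ := mk_surj v; obtain ⟨l, rfl⟩ := mk_surj w
      rw [φ_mk, φ_mk, Bf_mk, Bf_mk]
      refine congrArg Additive.ofMul (Subtype.ext (Subtype.ext ?_))
      show ((⁅MulAut.conjNormal x k, MulAut.conjNormal x l⁆ : ↥K) : H) = ((⁅k, l⁆ : ↥K) : H)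
      rw [show ⁅MulAut.conjNormal x k, MulAut.conjNormal x l⁆ = MulAut.conjNormal x ⁅k, l⁆ from
        (map_commutatorElement _ k l).symm, MulAut.conjNormal_apply]
      exact hfixN x hx _ (by simpa [commutatorElement_def] using hKN' k k.2 l l.2))
  obtain ⟨⟨U, hU⟩, rfl⟩ := mk_surj u
  -- translates of `U` commute
  have hUU : ∀ c ∈ A, ∀ d ∈ A, Commute (c * U * c⁻¹) (d * U * d⁻¹) := by
    intro c hc d hd
    have h1 := hiso _ (Subgroup.mem_map_of_mem φ hc) _ (Subgroup.mem_map_of_mem φ hd)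
    rw [φ_mk, φ_mk, Bf_mk] at h1
    have h2 := commutatorElement_eq_one_iff_mul_comm.1
      (congrArg Subtype.val (congrArg Additive.toMul h1))
    exact congrArg Subtype.val h2
  let t : H → H := fun c => U * c * U⁻¹ * c⁻¹
  have ht : ∀ c, t c = U * (c * U * c⁻¹)⁻¹ := fun c => by simp only [t]; group
  have htK : ∀ c, t c ∈ K := fun c => by rw [ht]; exact K.mul_mem hU (K.inv_mem (hKn.conj_mem U hU c))
  have htcomm : ∀ c ∈ A, ∀ d ∈ A, t c * t d = t d * t c := by
    intro c hc d hd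
    have hU1 : ∀ c ∈ A, Commute U (c * U * c⁻¹) := fun c hc => by simpa using hUU 1 A.one_mem c hc
    rw [ht, ht]
    exact (((Commute.refl U).mul_right (hU1 d hd).inv_right).mul_left
      ((hU1 c hc).symm.inv_left.mul_right (hUU c hc d hd).inv_left.inv_right)).eq
  set M := Subgroup.closure (t '' (A : Set H)) with hM
  haveI hMc : IsMulCommutative M := Subgroup.isMulCommutative_closure (by
    rintro _ ⟨c, hc, rfl⟩ _ ⟨d, hd, rfl⟩; exact htcomm c hc d hd)
  have hMK : M ≤ K := by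
    rw [hM, Subgroup.closure_le]; rintro _ ⟨c, -, rfl⟩; exact htK c
  set C := A ⊓ Subgroup.centralizer (M : Set H) with hC
  have hMcomm : ∀ m ∈ M, ∀ m' ∈ M, m * m' = m' * m := fun m hm m' hm' =>
    congrArg Subtype.val (hMc.is_comm.comm (⟨m, hm⟩ : M) ⟨m', hm'⟩)
  have hfib : ∀ c ∈ A, ∀ d ∈ A, (t c)⁻¹ * t d ∈ A → c⁻¹ * d ∈ C := by
    intro c hc d hd h
    set b := c⁻¹ * d with hb
    have hbA : b ∈ A := A.mul_mem (A.inv_mem hc) hd
    refine ⟨hbA, ?_⟩
    have hb' : U * b * U⁻¹ ∈ A := by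
      have := A.mul_mem (A.inv_mem hc) (A.mul_mem h hd)
      have e : U * b * U⁻¹ = c⁻¹ * ((t c)⁻¹ * t d * d) := by rw [hb]; simp only [t]; group
      rwa [e]
    have htb : t b ∈ A := by
      have := A.mul_mem hb' (A.inv_mem hbA)
      exact this
    have htbM : t b ∈ M := Subgroup.subset_closure ⟨b, hbA, rfl⟩
    rw [hM, Subgroup.centralizer_closure]
    refine Subgroup.mem_centralizer_iff.2 ?_
    rintro _ ⟨e, he, rfl⟩
    have h1 : Commute (t b) (t e) := hMcomm _ htbM _ (Subgroup.subset_closure ⟨e, he, rfl⟩)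
    have h2 : Commute (t b) e := hAc _ htb e he
    have h3 : Commute (U * b * U⁻¹) (U * e * U⁻¹) := by
      show _ = _
      calc U * b * U⁻¹ * (U * e * U⁻¹) = U * (b * e) * U⁻¹ := by group
        _ = U * (e * b) * U⁻¹ := by rw [hAc b hbA e he]
        _ = U * e * U⁻¹ * (U * b * U⁻¹) := by group
    have e4 : U * e * U⁻¹ = t e * e := by simp only [t]; group
    have e5 : b = (t b)⁻¹ * (U * b * U⁻¹) := by simp only [t]; group
    have h6 : Commute b (U * e * U⁻¹) := by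
      rw [e5]
      refine (Commute.mul_left ?_ h3)
      rw [e4]
      exact (h1.mul_right h2).inv_left
    have e7 : t e = U * e * U⁻¹ * e⁻¹ := rfl
    rw [e7]
    exact ((h6.mul_right (show Commute b e from hAc b hbA e he).inv_right).eq).symm
  -- counting
  set D := A.subgroupOf M with hD
  let θ : ↥A → ↥M ⧸ D := fun c => QuotientGroup.mk ⟨t c, Subgroup.subset_closure ⟨c, c.2, rfl⟩⟩
  have hθ : ∀ c d : ↥A, θ c = θ d → (c : H)⁻¹ * d ∈ C := fun c d h =>
    hfib c c.2 d d.2 (by simpa using Subgroup.mem_subgroupOf.1 (QuotientGroup.eq.1 h))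
  have hsurj : Function.Surjective θ := by
    have hle1 : Nat.card ↥A ≤ Nat.card (Set.range θ) * Nat.card ↥C := by
      rw [← Nat.card_prod]
      refine Nat.card_le_card_of_injective (fun c : ↥A => ((⟨θ c, c, rfl⟩ : Set.range θ),
        (⟨((⟨θ c, c, rfl⟩ : Set.range θ).2.choose : H)⁻¹ * c, hθ _ _ (⟨θ c, c, rfl⟩ : Set.range θ).2.choose_spec⟩ : ↥C))) ?_
      intro c d h
      obtain ⟨h1, h2⟩ := Prod.mk.injEq _ _ _ _ ▸ h
      have h1' : θ c = θ d := congrArg Subtype.val h1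
      have h2' := congrArg Subtype.val h2
      simp only [h1'] at h2'
      exact Subtype.ext (mul_left_cancel h2')
    have hA' : IsMulCommutative (Subgroup.closure ((M : Set H) ∪ C)) := Subgroup.isMulCommutative_closure (by
      rintro x (hx | hx) y (hy | hy)
      · exact hMcomm x hx y hy
      · exact Subgroup.mem_centralizer_iff.1 hy.2 x hx
      · exact (Subgroup.mem_centralizer_iff.1 hx.2 y hy).symm
      · exact hAc x hx.1 y hy.1)
    have hle2 : Nat.card (↥M ⧸ D) * Nat.card ↥C ≤ Nat.card ↥A := by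
      refine le_trans ?_ (hA.max (Subgroup.closure ((M : Set H) ∪ C)) ((Subgroup.closure_le _).2 ?_) hA'
        fun _ _ => pow_zero _)
      · rw [← Nat.card_prod]
        refine Nat.card_le_card_of_injective (fun q : (↥M ⧸ D) × ↥C => (⟨(q.1.out : H) * q.2,
          Subgroup.mul_mem _ (Subgroup.subset_closure (Or.inl q.1.out.2)) (Subgroup.subset_closure (Or.inr q.2.2))⟩ :
            ↥(Subgroup.closure ((M : Set H) ∪ C)))) ?_
        rintro ⟨q, c⟩ ⟨q', c'⟩ h
        have h' : (q.out : H) * c = (q'.out : H) * c' := congrArg Subtype.val h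
        have hq : q = q' := by
          rw [← QuotientGroup.out_eq' q, ← QuotientGroup.out_eq' q']
          refine QuotientGroup.eq.2 (Subgroup.mem_subgroupOf.2 ?_)
          have e : (q.out : H)⁻¹ * q'.out = (c : H) * (c' : H)⁻¹ := by
            rw [inv_mul_eq_iff_eq_mul, ← mul_assoc, h', mul_inv_cancel_right]
          simp only [Subgroup.coe_mul, Subgroup.coe_inv]
          rw [e]
          exact A.mul_mem c.2.1 (A.inv_mem c'.2.1)
        subst hq
        rw [Prod.mk.injEq]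
        exact ⟨rfl, Subtype.ext (mul_left_cancel h')⟩
      · rintro x (hx | hx)
        · exact hPS (hKP (hMK hx))
        · exact hA.le hx.1
    have hge : Nat.card (↥M ⧸ D) ≤ Nat.card (Set.range θ) :=
      Nat.le_of_mul_le_mul_right (hle2.trans hle1) Nat.card_pos
    have huniv : Set.range θ = Set.univ := Set.eq_of_subset_of_ncard_le (Set.subset_univ _)
      (by rwa [Set.ncard_univ, ← Nat.card_coe_set_eq])
    exact Set.range_eq_univ.1 huniv
  -- the contradiction
  have htaM : a * t a * a⁻¹ ∈ M := by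
    have e : a * t a * a⁻¹ = (t a)⁻¹ * t (a * a) := by simp only [t]; group
    rw [e]
    exact M.mul_mem (M.inv_mem (Subgroup.subset_closure ⟨a, ha, rfl⟩))
      (Subgroup.subset_closure ⟨a * a, A.mul_mem ha ha, rfl⟩)
  set m := a * t a * a⁻¹ * (t a)⁻¹ with hm
  have hmM : m ∈ M := M.mul_mem htaM (M.inv_mem (Subgroup.subset_closure ⟨a, ha, rfl⟩))
  obtain ⟨⟨c, hc⟩, hcθ⟩ := hsurj (QuotientGroup.mk ⟨m, hmM⟩)
  have hd : (t c)⁻¹ * m ∈ A := by simpa using Subgroup.mem_subgroupOf.1 (QuotientGroup.eq.1 hcθ)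
  set d := (t c)⁻¹ * m with hddef
  have hdK : d ∈ K := K.mul_mem (K.inv_mem (htK c)) (hMK hmM)
  obtain ⟨j, hj'⟩ := hj _ (Subgroup.mem_map_of_mem φ hc)
  set α : AddMonoid.End V := (φ a : AddMonoid.End V) with hα
  set u : V := mk ⟨U, hU⟩ with hu
  have hmt : ∀ c, mk ⟨t c, htK c⟩ = u - (φ c : AddMonoid.End V) u := fun c => by
    have e : (⟨t c, htK c⟩ : ↥K) = ⟨U, hU⟩ * (MulAut.conjNormal c ⟨U, hU⟩)⁻¹ := Subtype.ext (by
      show t c = U * (c * U * c⁻¹)⁻¹
      exact ht c)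
    rw [e, mk_mul, hu, φ_mk, sub_eq_add_neg]
    congr 1
  have hd0 : α (mk ⟨d, hdK⟩) = mk ⟨d, hdK⟩ := by
    rw [hα, φ_mk]
    congr 1
    apply Subtype.ext
    rw [MulAut.conjNormal_apply, hAc a ha d hd, mul_inv_cancel_right]
  have hmk_m : mk ⟨m, hMK hmM⟩ = α (u - α u) - (u - α u) := by
    have e : (⟨m, hMK hmM⟩ : ↥K) = MulAut.conjNormal a ⟨t a, htK a⟩ * (⟨t a, htK a⟩ : ↥K)⁻¹ :=
      Subtype.ext (by simp [hm])
    rw [e, mk_mul, hα, ← hmt a, φ_mk, sub_eq_add_neg]
    congr 1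
  have hmk_m' : mk ⟨m, hMK hmM⟩ = (u - (φ c : AddMonoid.End V) u) + mk ⟨d, hdK⟩ := by
    rw [← hmt c, ← mk_mul]
    congr 1
    exact Subtype.ext (by simp [hddef])
  apply hcube
  obtain ⟨e, he⟩ := IsPGroup.iff_orderOf.1 (S.isPGroup'.to_le hA.le) ⟨a, ha⟩
  rw [Subgroup.orderOf_mk] at he
  have hαe : α ^ p ^ e = 1 := by
    rw [hα, ← Units.val_pow_eq_pow_val, ← map_pow, ← he, pow_orderOf_eq_one, map_one, Units.val_one]
  have hαj : (φ c : AddMonoid.End V) u = (α ^ j) u := by rw [hj', Units.val_pow_eq_pow_val, hα]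
  have hkey : ((α - 1) ^ 3 : AddMonoid.End V) u = ((α - 1) * (α ^ j - 1) : AddMonoid.End V) u := by
    have hd' : mk ⟨d, hdK⟩ = α (u - α u) - (u - α u) - (u - (α ^ j) u) := by
      rw [← hαj, ← hmk_m, hmk_m']; abel
    have h0 : α (mk ⟨d, hdK⟩) - mk ⟨d, hdK⟩ = 0 := sub_eq_zero.2 hd0
    rw [hd'] at h0
    show (α - 1) ((α - 1) ((α - 1) u)) = (α - 1) ((α ^ j - 1) u)
    show α (α (α u - u) - (α u - u)) - (α (α u - u) - (α u - u)) = α ((α ^ j) u - u) - ((α ^ j) u - u)
    simp only [map_sub] at h0 ⊢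
    rw [← sub_eq_zero, ← neg_eq_zero]
    rw [← h0]
    abel
  have h3 := cube_eq_zero hpp h5 hVp α hαe u j hkey
  show α (α (α u)) - 3 • α (α u) + 3 • α u - u = 0
  have h4 : α (α (α u - u) - (α u - u)) - (α (α u - u) - (α u - u)) = 0 := h3
  simp only [map_sub] at h4
  rw [← h4]
  abel

end CfsgLib.ThompsonJ
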