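import Mathlib.Algebra.CharP.Lemmas
import Mathlib.Tactic.Ring
import Mathlib.Tactic.LinearCombination
import Mathlib.GroupTheory.PGroup
import Mathlib.Algebra.Ring.Equiv
import Mathlib.Algebra.Ring.Subring.Basic

/-!
Automorphisms of odd prime power order of reduced rings of characteristic `p ≥ 5`: they are trivial
once they act cubically on the symmetric elements.
-/

set_option autoImplicit false

namespace CfsgLib.ThompsonJ

variable {R : Type*} [CommRing R]

/-- An automorphism cubic on a subring of a reduced ring of characteristic at least five fixes it. -/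
theorem fixed_of_cubic {p : ℕ} (hp : p.Prime) (h5 : 5 ≤ p) (hch : (p : R) = 0)
    (hred : ∀ r : R, r * r = 0 → r = 0) (σ : R →+* R) (S : Subring R) (hS : ∀ r ∈ S, σ r ∈ S)
    (hcub : ∀ r ∈ S, σ (σ (σ r)) - 3 * σ (σ r) + 3 * σ r - r = 0) :
    ∀ r ∈ S, σ r = r := by
  have hunit : ∀ (n : ℕ), 0 < n → n < p → ∀ r : R, (n : R) * r = 0 → r = 0 := by
    intro n hn hnp r hr
    have hcop : Nat.Coprime n p :=
      (hp.coprime_iff_not_dvd.2 fun h => absurd (Nat.le_of_dvd hn h) (by omega)).symm
    have hb := Nat.gcd_eq_gcd_ab n p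
    rw [Nat.Coprime.gcd_eq_one hcop] at hb
    have hb' := congrArg (fun z : ℤ => (z : R)) hb
    push_cast at hb'
    rw [hch, zero_mul, add_zero] at hb'
    calc r = (1 : R) * r := (one_mul r).symm
      _ = (n : R) * ((n.gcdA p : ℤ) : R) * r := by rw [hb']
      _ = ((n.gcdA p : ℤ) : R) * ((n : R) * r) := by ring
      _ = 0 := by rw [hr, mul_zero]
  -- second differences vanish
  have hquad : ∀ r ∈ S, σ (σ r) - 2 * σ r + r = 0 := by
    intro r hr
    set D := σ (σ r) - 2 * σ r + r with hD
    have e3 : σ (σ (σ r)) = 3 * σ (σ r) - 3 * σ r + r := by linear_combination hcub r hr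
    have h1 := hcub _ (S.mul_mem hr hr)
    have h2 := hcub _ (hS _ (S.mul_mem hr hr))
    simp only [map_mul, map_add, map_sub, e3, map_ofNat] at h1 h2
    have h6 : (6 : ℕ) * (D * D) = (0 : R) := by
      rw [hD]; push_cast; linear_combination h2 - h1
    refine hred _ ?_
    by_cases h7 : 7 ≤ p
    · exact hunit 6 (by norm_num) (by omega) _ h6
    · have hp5 : p = 5 := by
        by_contra hne
        have : p = 6 := by omega
        subst this
        exact absurd hp (by decide)
      subst hp5
      refine hunit 1 one_pos (by norm_num) _ ?_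
      push_cast at hch h6 ⊢
      linear_combination h6 - (D * D) * hch
  intro r hr
  have h1 := hquad _ (S.mul_mem hr hr)
  have e2 : σ (σ r) = 2 * σ r - r := by linear_combination hquad r hr
  simp only [map_mul, e2] at h1
  have h2 : (2 : ℕ) * ((σ r - r) * (σ r - r)) = (0 : R) := by
    push_cast; linear_combination h1
  exact sub_eq_zero.1 (hred _ (hunit 2 two_pos (by omega) _ h2))

/-- An automorphism of odd order fixing `y + y'` and all products of two antisymmetric elements
fixes `y`. -/
theorem fixed_unit {q : ℕ} (hq : Odd q) (hq3 : 3 ≤ q)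
    (hpow : ∀ r : R, r ^ q = r) (σ : R →+* R) {m : ℕ} (hm : Odd m) (hσ : ∀ r, σ^[m] r = r)
    (w : R) (h2 : σ (w * w) = w * w) (h11 : σ (σ w * w) = σ w * w) :
    σ w = w := by
  obtain ⟨l, hl⟩ := hq
  have hN : (w * w) ^ l * w = w := by
    rw [← pow_two, ← pow_mul, ← pow_succ, ← hl, hpow]
  set ε := σ w * w * (w * w) ^ (l - 1) with hε
  have hεf : σ ε = ε := by rw [hε, map_mul, h11, map_pow, h2]
  have hwl : (w * w) ^ (l - 1) * (w * w) = (w * w) ^ l := by
    rw [← pow_succ]; congr 1; omega
  have hσw : σ w = ε * w := by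
    have h3 : σ w = σ w * (w * w) ^ l := by
      conv_lhs => rw [← hN]
      rw [map_mul, map_pow, h2, mul_comm]
    rw [hε, h3, ← hwl]
    have h4 : (w * w) ^ (l - 1) * (w * w) * (w * w) ^ (l - 1) * (w * w) = (w * w) ^ (l - 1) * (w * w) := by
      rw [mul_assoc _ ((w * w) ^ (l - 1)) (w * w), hwl, ← pow_add]
      calc (w * w) ^ (l + l) = (w * w) ^ (l - 1) * ((w * w) ^ l * w) * w := by
            have : l + l = (l - 1) + l + 1 := by omega
            rw [this, pow_succ, pow_add]; ring
        _ = (w * w) ^ l := by rw [hN, ← hwl]; ring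
    linear_combination (-(σ w)) * h4
  have h22 : σ (σ w) = w := by
    rw [hσw, map_mul, hεf, hσw]
    have h5' : σ w * σ w = w * w := by rw [← map_mul, h2]
    rw [hσw] at h5'
    calc ε * (ε * w) = (ε * w) * (ε * w) * ((w * w) ^ (l - 1) * w) := by
          conv_lhs => rw [← hN, ← hwl]
          ring
      _ = w := by
          rw [h5']
          conv_rhs => rw [← hN, ← hwl]
          ring
  obtain ⟨k, hk⟩ := hm
  have h := hσ w
  have hev : ∀ j, σ^[2 * j] w = w := by
    intro j
    induction j with
    | zero => rfl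
    | succ j ih => rw [show 2 * (j + 1) = 2 + 2 * j by ring, Function.iterate_add_apply, ih]; exact h22
  rw [hk, add_comm, Function.iterate_add_apply, hev] at h
  exact h

end CfsgLib.ThompsonJ
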